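import Mathlib
import Cfsg.Agent.GH.Rank

section


/-!
# OMEGA / SQT, node SQ2 = FF-1 (bb #9675), step (5'): the algebra

`μ (x y) + κ (x² y) = g x h y` with `μ, κ, g, h` additive, `g, h` injective, over a finite field of characteristic 2:
`μ = 0` or `κ = 0` (kernel trick), and everything is semilinear.
-/

set_option autoImplicit false

namespace Cfsg.Agent.Omega.FFOne

variable {F : Type*} [Field F] [Finite F]

/-- The kernel trick. -/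
theorem kernel_trick (μ κ g h : F →+ F) (hg : Function.Injective g) (hh : Function.Injective h)
    (H : ∀ x y, μ (x * y) + κ (x * x * y) = g x * h y) : μ = 0 ∨ κ = 0 := by
  have key : ∀ u v : F, u ≠ 0 → v ≠ 0 → μ u + κ v ≠ 0 := by
    intro u v hu hv h0
    have h1 := H (v / u) (u * u / v)
    have e1 : v / u * (u * u / v) = u := by field_simp
    have e2 : v / u * (v / u) * (u * u / v) = v := by field_simp
    rw [e1, e2, h0] at h1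
    have hx : v / u ≠ 0 := div_ne_zero hv hu
    have hy : u * u / v ≠ 0 := div_ne_zero (mul_ne_zero hu hu) hv
    have h2 : g (v / u) ≠ 0 := fun h => hx (hg (h.trans (map_zero g).symm))
    have h3 : h (u * u / v) ≠ 0 := fun h' => hy (hh (h'.trans (map_zero h).symm))
    exact (mul_ne_zero h2 h3) h1.symm
  by_cases hμ : Function.Injective μ
  · right
    have hs : Function.Surjective μ := Finite.surjective_of_injective hμ
    ext v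
    by_contra hv
    have hv0 : v ≠ 0 := by rintro rfl; exact hv (by simp)
    obtain ⟨u, hu⟩ := hs (-κ v)
    have hu0 : u ≠ 0 := by
      rintro rfl
      rw [map_zero] at hu
      exact hv (by simpa using (neg_eq_zero.1 hu.symm))
    exact key u v hu0 hv0 (by rw [hu]; ring)
  · have hu : ∃ u : F, u ≠ 0 ∧ μ u = 0 := by
      by_contra hcon
      push Not at hcon
      exact hμ ((injective_iff_map_eq_zero μ).2 fun a ha => by
        by_contra h0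
        exact hcon a h0 ha)
    obtain ⟨u, hu0, hu⟩ := hu
    left
    have hκ : Function.Injective κ := (injective_iff_map_eq_zero κ).2 fun v hv => by
      by_contra h0
      exact key u v hu0 h0 (by rw [hu, hv, add_zero])
    have hs : Function.Surjective κ := Finite.surjective_of_injective hκ
    ext w
    by_contra hw
    have hw0 : w ≠ 0 := by rintro rfl; exact hw (by simp)
    obtain ⟨v, hv⟩ := hs (-μ w)
    have hv0 : v ≠ 0 := by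
      rintro rfl
      rw [map_zero] at hv
      exact hw (by simpa using (neg_eq_zero.1 hv.symm))
    exact key w v hw0 hv0 (by rw [hv]; ring)

/-- A multiplicative (up to a scalar) additive map is semilinear. -/
theorem exists_aut (κ : F →+ F) (h1 : κ 1 ≠ 0) (hm : ∀ u v, κ (u * v) * κ 1 = κ u * κ v) :
    ∃ ρ : F ≃+* F, ∀ u, κ u = κ 1 * ρ u := by
  let f : F →+* F :=
    { toFun := fun u => κ u / κ 1
      map_one' := div_self h1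
      map_mul' := fun u v => by
        have := hm u v
        field_simp
        linear_combination this
      map_zero' := by simp
      map_add' := fun u v => by rw [map_add, add_div] }
  have hb : Function.Bijective f := Finite.injective_iff_bijective.1 f.injective
  refine ⟨RingEquiv.ofBijective f hb, fun u => ?_⟩
  change κ u = κ 1 * (κ u / κ 1)
  field_simp

/-- the case `κ = 0` -/
theorem semi_mul (μ g h : F →+ F) (hg : Function.Injective g) (hh : Function.Injective h)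
    (H : ∀ x y, μ (x * y) = g x * h y) :
    ∃ ρ : F ≃+* F, (∀ u, μ u = μ 1 * ρ u) ∧ (∀ u, g u = g 1 * ρ u) ∧ (∀ u, h u = h 1 * ρ u) := by
  have hg1 : g 1 ≠ 0 := fun h => one_ne_zero (hg (h.trans (map_zero g).symm))
  have hh1 : h 1 ≠ 0 := fun h' => one_ne_zero (hh (h'.trans (map_zero h).symm))
  have e1 : μ 1 = g 1 * h 1 := by simpa using H 1 1
  have e2 : ∀ x, μ x = g x * h 1 := fun x => by simpa using H x 1
  have e3 : ∀ y, μ y = g 1 * h y := fun y => by simpa using H 1 y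
  obtain ⟨ρ, hρ⟩ := exists_aut μ (by rw [e1]; exact mul_ne_zero hg1 hh1) fun u v => by
    rw [H, e1, e2 u, e3 v]; ring
  refine ⟨ρ, hρ, fun u => ?_, fun u => ?_⟩
  · apply mul_right_cancel₀ hh1
    rw [← e2, hρ, e1]; ring
  · apply mul_left_cancel₀ hg1
    rw [← e3, hρ, e1]; ring

/-- the case `μ = 0` -/
theorem semi_sq [CharP F 2] (κ g h : F →+ F) (hg : Function.Injective g) (hh : Function.Injective h)
    (H : ∀ x y, κ (x * x * y) = g x * h y) :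
    ∃ ρ : F ≃+* F, (∀ u, κ u = κ 1 * ρ u) ∧ (∀ u, g u = g 1 * (ρ u * ρ u)) ∧ (∀ u, h u = h 1 * ρ u) := by
  have hg1 : g 1 ≠ 0 := fun h => one_ne_zero (hg (h.trans (map_zero g).symm))
  have hh1 : h 1 ≠ 0 := fun h' => one_ne_zero (hh (h'.trans (map_zero h).symm))
  have e1 : κ 1 = g 1 * h 1 := by simpa using H 1 1
  have e2 : ∀ x, κ (x * x) = g x * h 1 := fun x => by simpa using H x 1
  have e3 : ∀ y, κ y = g 1 * h y := fun y => by simpa using H 1 y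
  have hsq : ∀ u : F, ∃ x : F, u = x * x := fun u => by
    have hinj : Function.Injective (fun x : F => x * x) := by
      intro a b hab
      have hab' : a * a = b * b := hab
      have h2 : (2 : F) = 0 := CharTwo.two_eq_zero
      have : (a + b) * (a + b) = 0 := by linear_combination hab' + (a * b + b * b) * h2
      have h3 : a + b = 0 := mul_self_eq_zero.1 this
      exact CharTwo.add_eq_zero.1 h3
    obtain ⟨x, hx⟩ := Finite.surjective_of_injective hinj u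
    exact ⟨x, hx.symm⟩
  obtain ⟨ρ, hρ⟩ := exists_aut κ (by rw [e1]; exact mul_ne_zero hg1 hh1) fun u v => by
    obtain ⟨x, rfl⟩ := hsq u
    rw [H, e1, e2 x, e3 v]; ring
  refine ⟨ρ, hρ, fun u => ?_, fun u => ?_⟩
  · apply mul_right_cancel₀ hh1
    rw [← e2, hρ, e1, map_mul]; ring
  · apply mul_left_cancel₀ hg1
    rw [← e3, hρ, e1]; ring

end Cfsg.Agent.Omega.FFOne

end

section


/-!
# NODE (A): involutory automorphisms of a finite field of characteristic 2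

* `aut_unique`: two automorphisms of order 2 are equal;
* `card_fix_sq_le`: `|Fix ρ|² ≤ |F|` for `ρ ≠ 1`;
* `card_fix_sq_le'`: the same for the fixed points of `a ↦ k ρ a`;
* `one_of_two_pow`: no 2-elements in `Fˣ`.
-/

set_option autoImplicit false

namespace Cfsg.Agent.Omega.SQ1.TyAlg

variable {F : Type*} [Field F] [Finite F]

theorem aut_unique (ρ ρ' : F ≃+* F) (h : ∀ a, ρ (ρ a) = a) (h' : ∀ a, ρ' (ρ' a) = a) (hn : ∃ a, ρ a ≠ a)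
    (hn' : ∃ a, ρ' a ≠ a) (a : F) : ρ a = ρ' a := by
  classical
  obtain ⟨p, hp⟩ := CharP.exists F
  haveI := hp
  haveI : Fact p.Prime := ⟨CharP.char_is_prime F p⟩
  letI := ZMod.algebra F p
  have hcom : ∀ (σ : F ≃+* F) (n : ZMod p), σ (algebraMap (ZMod p) F n) = algebraMap (ZMod p) F n := by
    intro σ n
    exact DFunLike.congr_fun (Subsingleton.elim ((σ : F →+* F).comp (algebraMap (ZMod p) F)) (algebraMap (ZMod p) F)) n
  let g : F ≃ₐ[ZMod p] F := AlgEquiv.ofRingEquiv (f := ρ) (hcom ρ)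
  let g' : F ≃ₐ[ZMod p] F := AlgEquiv.ofRingEquiv (f := ρ') (hcom ρ')
  haveI : Fintype (F ≃ₐ[ZMod p] F) := Fintype.ofFinite _
  have hc := IsCyclic.card_pow_eq_one_le (α := F ≃ₐ[ZMod p] F) (n := 2) (by norm_num)
  have hg : g ^ 2 = 1 := by
    rw [pow_two]
    ext b
    exact h b
  have hg' : g' ^ 2 = 1 := by
    rw [pow_two]
    ext b
    exact h' b
  have hg1 : g ≠ 1 := fun h1 => by
    obtain ⟨b, hb⟩ := hn
    exact hb (DFunLike.congr_fun h1 b)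
  have hg1' : g' ≠ 1 := fun h1 => by
    obtain ⟨b, hb⟩ := hn'
    exact hb (DFunLike.congr_fun h1 b)
  by_contra hne
  have hgg : g ≠ g' := fun h1 => hne (DFunLike.congr_fun h1 a)
  have h3 : ({1, g, g'} : Finset (F ≃ₐ[ZMod p] F)) ⊆ Finset.univ.filter fun σ => σ ^ 2 = 1 := by
    intro σ hσ
    simp only [Finset.mem_insert, Finset.mem_singleton] at hσ
    rw [Finset.mem_filter]
    refine ⟨Finset.mem_univ _, ?_⟩
    rcases hσ with rfl | rfl | rfl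
    · exact one_pow _
    · exact hg
    · exact hg'
  have h4 := Finset.card_le_card h3
  have h5 : ({1, g, g'} : Finset (F ≃ₐ[ZMod p] F)).card = 3 := by
    rw [Finset.card_insert_of_notMem, Finset.card_pair hgg]
    simp only [Finset.mem_insert, Finset.mem_singleton, not_or]
    exact ⟨fun h => hg1 h.symm, fun h => hg1' h.symm⟩
  omega

theorem card_fix_sq_le (ρ : F ≃+* F) (hn : ∃ a, ρ a ≠ a) : Nat.card {a : F // ρ a = a} ^ 2 ≤ Nat.card F := by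
  obtain ⟨θ, hθ⟩ := hn
  rw [pow_two, ← Nat.card_prod]
  refine Nat.card_le_card_of_injective (fun p : {a : F // ρ a = a} × {a : F // ρ a = a} => p.1.1 + p.2.1 * θ) ?_
  rintro ⟨⟨a, ha⟩, ⟨b, hb⟩⟩ ⟨⟨a', ha'⟩, ⟨b', hb'⟩⟩ h
  have h : a + b * θ = a' + b' * θ := h
  have h1 := congrArg ρ h
  rw [map_add, map_add, map_mul, map_mul, ha, ha', hb, hb'] at h1
  have h2 : (b - b') * (ρ θ - θ) = 0 := by linear_combination h1 - h
  have h3 : b = b' := sub_eq_zero.1 ((mul_eq_zero.1 h2).resolve_right (sub_ne_zero.2 hθ))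
  subst h3
  have h4 : a = a' := by linear_combination h
  subst h4
  rfl

theorem card_fix_sq_le' (ρ : F ≃+* F) (hn : ∃ a, ρ a ≠ a) (k : F) :
    Nat.card {a : F // k * ρ a = a} ^ 2 ≤ Nat.card F := by
  by_cases h0 : ∃ b : F, b ≠ 0 ∧ k * ρ b = b
  · obtain ⟨b, hb0, hb⟩ := h0
    refine le_trans (Nat.pow_le_pow_left (Nat.card_le_card_of_injective
      (fun a : {a : F // k * ρ a = a} => (⟨a.1 / b, ?_⟩ : {a : F // ρ a = a})) ?_) 2) (card_fix_sq_le ρ hn)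
    · have hρb : ρ b ≠ 0 := (map_ne_zero ρ).2 hb0
      have hk : k ≠ 0 := by
        rintro rfl
        rw [zero_mul] at hb
        exact hb0 hb.symm
      have h1 := a.2
      rw [map_div₀, div_eq_div_iff hρb hb0]
      apply mul_left_cancel₀ hk
      linear_combination b * h1 - a.1 * hb
    · rintro ⟨a, ha⟩ ⟨a', ha'⟩ h
      have h1 : a / b = a' / b := congrArg Subtype.val h
      have h2 : a = a' := by
        rw [div_left_inj' hb0] at h1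
        exact h1
      subst h2
      rfl
  · push Not at h0
    have h1 : Nat.card {a : F // k * ρ a = a} ≤ 1 := by
      haveI : Subsingleton {a : F // k * ρ a = a} := by
        refine ⟨fun a b => Subtype.ext ?_⟩
        have ha : a.1 = 0 := by
          by_contra h
          exact h0 _ h a.2
        have hb : b.1 = 0 := by
          by_contra h
          exact h0 _ h b.2
        rw [ha, hb]
      exact Finite.card_le_one_iff_subsingleton.2 inferInstance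
    calc Nat.card {a : F // k * ρ a = a} ^ 2 ≤ 1 ^ 2 := Nat.pow_le_pow_left h1 2
      _ = 1 := one_pow 2
      _ ≤ Nat.card F := Nat.card_pos

theorem one_of_two_pow [CharP F 2] {a : F} {n : ℕ} (h : a ^ 2 ^ n = 1) : a = 1 := by
  induction n with
  | zero => simpa using h
  | succ n ih =>
    apply ih
    rw [pow_succ, pow_mul] at h
    have h2 : (2 : F) = 0 := CharTwo.two_eq_zero
    have h3 : (a ^ 2 ^ n + 1) * (a ^ 2 ^ n + 1) = 0 := by linear_combination h + (a ^ 2 ^ n + 1) * h2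
    have h4 := mul_self_eq_zero.1 h3
    linear_combination h4 - h2

end Cfsg.Agent.Omega.SQ1.TyAlg

end

section


/-!
# OMEGA / SQT, node SQ2 = FF-1 (bb #9675), step (5'): coordinates

`Base`: `Q₁, Q₂` elementary abelian, normalising each other, `D = Q₁ ∩ Q₂`, `C₁ ∩ C₂ = 1`.
`Co`: the coordinates of one side (natural `SL₂(q)`-module) on `Q₁/D`, `Q₂/D`, `D/C₁` and a torus generator.
-/

set_option autoImplicit false

open Subgroup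

namespace Cfsg.Agent.Omega.FFOne

variable {G : Type*} [Group G]

/-- commutator -/
def cm (u v : G) : G := u * v * u⁻¹ * v⁻¹

structure Base (Q₁ Q₂ D : Subgroup G) : Prop where
  D₁ : D ≤ Q₁
  D₂ : D ≤ Q₂
  sq₁ : ∀ u ∈ Q₁, u * u = 1
  sq₂ : ∀ u ∈ Q₂, u * u = 1
  mem : ∀ u ∈ Q₁, ∀ v ∈ Q₂, cm u v ∈ D

namespace Base

variable {Q₁ Q₂ D : Subgroup G}

theorem inv₁ (b : Base Q₁ Q₂ D) {u : G} (hu : u ∈ Q₁) : u⁻¹ = u := inv_eq_of_mul_eq_one_left (b.sq₁ u hu)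

theorem inv₂ (b : Base Q₁ Q₂ D) {u : G} (hu : u ∈ Q₂) : u⁻¹ = u := inv_eq_of_mul_eq_one_left (b.sq₂ u hu)

theorem comm₁ (b : Base Q₁ Q₂ D) {x y : G} (hx : x ∈ Q₁) (hy : y ∈ Q₁) : x * y = y * x := by
  have h1 := b.inv₁ (mul_mem hx hy)
  rw [mul_inv_rev, b.inv₁ hx, b.inv₁ hy] at h1
  exact h1.symm

theorem comm₂ (b : Base Q₁ Q₂ D) {x y : G} (hx : x ∈ Q₂) (hy : y ∈ Q₂) : x * y = y * x := by
  have h1 := b.inv₂ (mul_mem hx hy)
  rw [mul_inv_rev, b.inv₂ hx, b.inv₂ hy] at h1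
  exact h1.symm

theorem cm_inv (b : Base Q₁ Q₂ D) {u v : G} (hu : u ∈ Q₁) (hv : v ∈ Q₂) : cm v u = cm u v := by
  have h1 : (cm u v)⁻¹ = cm u v := b.inv₁ (b.D₁ (b.mem u hu v hv))
  rw [← h1]
  simp only [cm]; group

theorem symm (b : Base Q₁ Q₂ D) : Base Q₂ Q₁ D where
  D₁ := b.D₂
  D₂ := b.D₁
  sq₁ := b.sq₂
  sq₂ := b.sq₁
  mem := fun u hu v hv => by
    rw [b.cm_inv hv hu]
    exact b.mem v hv u hu

theorem cm_mul_left (b : Base Q₁ Q₂ D) {u u' v : G} (hu : u ∈ Q₁) (hu' : u' ∈ Q₁) (hv : v ∈ Q₂) :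
    cm (u * u') v = cm u v * cm u' v := by
  have h1 := b.comm₁ hu (b.D₁ (b.mem u' hu' v hv))
  have h2 := b.comm₁ (b.D₁ (b.mem u hu v hv)) (b.D₁ (b.mem u' hu' v hv))
  calc cm (u * u') v = u * cm u' v * (v * u⁻¹ * v⁻¹) := by simp only [cm]; group
    _ = cm u' v * u * (v * u⁻¹ * v⁻¹) := by rw [h1]
    _ = cm u' v * cm u v := by simp only [cm]; group
    _ = cm u v * cm u' v := h2.symm

theorem cm_mul_right (b : Base Q₁ Q₂ D) {u v v' : G} (hu : u ∈ Q₁) (hv : v ∈ Q₂) (hv' : v' ∈ Q₂) :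
    cm u (v * v') = cm u v * cm u v' := by
  rw [← b.cm_inv hu (mul_mem hv hv'), b.symm.cm_mul_left hv hv' hu, b.cm_inv hu hv, b.cm_inv hu hv']

theorem cm_D_left (b : Base Q₁ Q₂ D) {u v : G} (hu : u ∈ D) (hv : v ∈ Q₂) : cm u v = 1 := by
  rw [cm, b.comm₂ (b.D₂ hu) hv]; group

theorem cm_D_right (b : Base Q₁ Q₂ D) {u v : G} (hu : u ∈ Q₁) (hv : v ∈ D) : cm u v = 1 := by
  rw [cm, b.comm₁ hu (b.D₁ hv)]; group

end Base

/-- Coordinates of one side. -/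
structure Co {F : Type*} [Field F] (Q₁ Q₂ D C : Subgroup G) (x y z : G → F) (t : G) (ω : F) : Prop where
  CD : C ≤ D
  x_mul : ∀ u ∈ Q₁, ∀ v ∈ Q₁, x (u * v) = x u + x v
  x_surj : ∀ a, ∃ u ∈ Q₁, x u = a
  x_ker : ∀ u ∈ Q₁, x u = 0 ↔ u ∈ D
  y_mul : ∀ u ∈ Q₂, ∀ v ∈ Q₂, y (u * v) = y u + y v
  y_surj : ∀ a, ∃ u ∈ Q₂, y u = a
  y_ker : ∀ u ∈ Q₂, y u = 0 ↔ u ∈ D
  z_mul : ∀ u ∈ D, ∀ v ∈ D, z (u * v) = z u + z v
  z_surj : ∀ a, ∃ u ∈ D, z u = a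
  z_ker : ∀ u ∈ D, z u = 0 ↔ u ∈ C
  com : ∀ u ∈ Q₁, ∀ v ∈ Q₂, z (cm u v) = x u * y v
  tQ₁ : ∀ u ∈ Q₁, t * u * t⁻¹ ∈ Q₁
  tQ₂ : ∀ u ∈ Q₂, t * u * t⁻¹ ∈ Q₂
  tD : ∀ u ∈ D, t * u * t⁻¹ ∈ D
  tx : ∀ u ∈ Q₁, x (t * u * t⁻¹) = ω⁻¹ * x u
  tz : ∀ u ∈ D, z (t * u * t⁻¹) = ω * z u
  tC : ∀ c ∈ C, t * c * t⁻¹ = c
  gen : ∀ a : F, a ≠ 0 → ∃ n : ℕ, a = ω ^ n
  ω0 : ω ≠ 0
  ω1 : ω ≠ 1

section add

variable {F : Type*} [Field F] {Q : Subgroup G} {f : G → F}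

theorem add_one' (hm : ∀ u ∈ Q, ∀ v ∈ Q, f (u * v) = f u + f v) : f 1 = 0 := by
  have := hm 1 (one_mem _) 1 (one_mem _)
  rw [one_mul] at this
  simpa using this

theorem add_inv' (hm : ∀ u ∈ Q, ∀ v ∈ Q, f (u * v) = f u + f v) {u : G} (hu : u ∈ Q) : f u⁻¹ = - f u := by
  have := hm u hu u⁻¹ (inv_mem hu)
  rw [mul_inv_cancel, add_one' hm] at this
  exact (neg_eq_of_add_eq_zero_right this.symm).symm

end add

theorem cm_conj (t u v : G) : t * cm u v * t⁻¹ = cm (t * u * t⁻¹) (t * v * t⁻¹) := by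
  simp only [cm]; group

namespace Co

variable {F : Type*} [Field F] {Q₁ Q₂ D C : Subgroup G} {x y z : G → F} {t : G} {ω : F}

theorem two_eq (co : Co Q₁ Q₂ D C x y z t ω) (b : Base Q₁ Q₂ D) : (2 : F) = 0 := by
  obtain ⟨u, hu, h1⟩ := co.x_surj 1
  have h2 := co.x_mul u hu u hu
  rw [b.sq₁ u hu, add_one' co.x_mul, h1] at h2
  rw [← one_add_one_eq_two, ← h2]

theorem charTwo (co : Co Q₁ Q₂ D C x y z t ω) (b : Base Q₁ Q₂ D) : CharP F 2 :=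
  CharTwo.of_one_ne_zero_of_two_eq_zero one_ne_zero (co.two_eq b)

/-- the torus acts by `ω²` on `Q₂/D` -/
theorem ty (co : Co Q₁ Q₂ D C x y z t ω) (b : Base Q₁ Q₂ D) {v : G} (hv : v ∈ Q₂) :
    y (t * v * t⁻¹) = ω ^ 2 * y v := by
  obtain ⟨u, hu, h1⟩ := co.x_surj 1
  have h2 := co.com _ (co.tQ₁ u hu) _ (co.tQ₂ v hv)
  rw [← cm_conj, co.tz _ (b.mem u hu v hv), co.com u hu v hv, co.tx u hu, h1] at h2
  have h0 := co.ω0
  field_simp at h2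
  rw [← h2]

/-- the section of `z` with values in `[D, t]` -/
theorem exists_s (co : Co Q₁ Q₂ D C x y z t ω) (b : Base Q₁ Q₂ D) :
    ∃ s : F → G, (∀ a, s a ∈ D) ∧ (∀ a, z (s a) = a) ∧ (∀ a a', s (a + a') = s a * s a') ∧
      (∀ a, t * s a * t⁻¹ = s (ω * a)) ∧ (∀ d ∈ D, t * d * t⁻¹ * d⁻¹ = s ((ω - 1) * z d)) := by
  have hω : ω - 1 ≠ 0 := sub_ne_zero.2 co.ω1
  choose d hdD hdz using co.z_surj
  have hwd : ∀ u ∈ D, ∀ v ∈ D, z u = z v → t * u * t⁻¹ * u⁻¹ = t * v * t⁻¹ * v⁻¹ := by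
    intro u hu v hv huv
    have h1 : u * v⁻¹ ∈ C := (co.z_ker _ (mul_mem hu (inv_mem hv))).1 (by
      rw [co.z_mul _ hu _ (inv_mem hv), add_inv' co.z_mul hv, huv, add_neg_cancel])
    have h2 := co.tC _ h1
    have h3 := b.comm₁ (b.D₁ (inv_mem hu)) (b.D₁ (inv_mem hv))
    have h4 : t * u * t⁻¹ = (u * v⁻¹) * (t * v * t⁻¹) := by
      rw [← h2]; group
    have h5 := b.comm₁ (mul_mem (b.D₁ hu) (b.D₁ (inv_mem hv))) (b.D₁ (co.tD v hv))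
    calc t * u * t⁻¹ * u⁻¹ = (u * v⁻¹) * (t * v * t⁻¹) * u⁻¹ := by rw [h4]
      _ = (t * v * t⁻¹) * (u * v⁻¹) * u⁻¹ := by rw [h5]
      _ = (t * v * t⁻¹) * (u * (v⁻¹ * u⁻¹)) := by group
      _ = (t * v * t⁻¹) * (u * (u⁻¹ * v⁻¹)) := by rw [h3]
      _ = t * v * t⁻¹ * v⁻¹ := by group
  refine ⟨fun a => t * d (a / (ω - 1)) * t⁻¹ * (d (a / (ω - 1)))⁻¹, fun a => mul_mem (co.tD _ (hdD _)) (inv_mem (hdD _)),
    fun a => ?_, fun a a' => ?_, fun a => ?_, fun u hu => ?_⟩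
  · rw [co.z_mul _ (co.tD _ (hdD _)) _ (inv_mem (hdD _)), co.tz _ (hdD _), add_inv' co.z_mul (hdD _), hdz]
    field_simp
    ring
  · have h1 := hwd _ (hdD ((a + a') / (ω - 1))) _ (mul_mem (hdD (a / (ω - 1))) (hdD (a' / (ω - 1)))) (by
      rw [co.z_mul _ (hdD _) _ (hdD _), hdz, hdz, hdz]; ring)
    simp only
    rw [h1]
    set u := d (a / (ω - 1))
    set v := d (a' / (ω - 1))
    have hu : u ∈ D := hdD _
    have hv : v ∈ D := hdD _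
    have h2 := b.comm₁ (b.D₁ (mul_mem (co.tD v hv) (inv_mem hv))) (b.D₁ (inv_mem hu))
    calc t * (u * v) * t⁻¹ * (u * v)⁻¹ = (t * u * t⁻¹) * ((t * v * t⁻¹ * v⁻¹) * u⁻¹) := by group
      _ = (t * u * t⁻¹) * (u⁻¹ * (t * v * t⁻¹ * v⁻¹)) := by rw [h2]
      _ = t * u * t⁻¹ * u⁻¹ * (t * v * t⁻¹ * v⁻¹) := by group
  · simp only
    rw [hwd _ (hdD (ω * a / (ω - 1))) _ (co.tD _ (hdD (a / (ω - 1)))) (by
      rw [co.tz _ (hdD _), hdz, hdz]; ring)]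
    group
  · exact hwd _ hu _ (hdD _) (by rw [hdz]; field_simp)

/-- the commutator map in coordinates -/
theorem exists_B (co : Co Q₁ Q₂ D C x y z t ω) (b : Base Q₁ Q₂ D) :
    ∃ B : F → F → G, (∀ p q, B p q ∈ D) ∧ ∀ u ∈ Q₁, ∀ v ∈ Q₂, cm u v = B (x u) (y v) := by
  choose u huQ hux using co.x_surj
  choose v hvQ hvy using co.y_surj
  refine ⟨fun p q => cm (u p) (v q), fun p q => b.mem _ (huQ _) _ (hvQ _), fun u' hu' v' hv' => ?_⟩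
  have h1 : u' * (u (x u'))⁻¹ ∈ D := (co.x_ker _ (mul_mem hu' (inv_mem (huQ _)))).1 (by
    rw [co.x_mul _ hu' _ (inv_mem (huQ _)), add_inv' co.x_mul (huQ _), hux, add_neg_cancel])
  have h2 : v' * (v (y v'))⁻¹ ∈ D := (co.y_ker _ (mul_mem hv' (inv_mem (hvQ _)))).1 (by
    rw [co.y_mul _ hv' _ (inv_mem (hvQ _)), add_inv' co.y_mul (hvQ _), hvy, add_neg_cancel])
  have e1 : u' = (u' * (u (x u'))⁻¹) * u (x u') := by group
  have e2 : v' = (v' * (v (y v'))⁻¹) * v (y v') := by group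
  calc cm u' v' = cm ((u' * (u (x u'))⁻¹) * u (x u')) v' := by rw [← e1]
    _ = cm (u (x u')) v' := by rw [b.cm_mul_left (b.D₁ h1) (huQ _) hv', b.cm_D_left h1 hv', one_mul]
    _ = cm (u (x u')) ((v' * (v (y v'))⁻¹) * v (y v')) := by rw [← e2]
    _ = cm (u (x u')) (v (y v')) := by
      rw [b.cm_mul_right (huQ _) (b.D₂ h2) (hvQ _), b.cm_D_right (huQ _) h2, one_mul]

end Co

end Cfsg.Agent.Omega.FFOne

end

section


/-!
# OMEGA / SQT, node SQ2 = FF-1 (bb #9675), step (5'), K-free: `S₀` is of type `L₃(q)` or `Sp₄(q)`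
-/

set_option autoImplicit false

open Subgroup

namespace Cfsg.Agent.Omega.FFOne

variable {G : Type*} [Group G]

/-- `S₀ = Q₁Q₂` is a Sylow 2-subgroup of `L₃(q)` with a torus. -/
structure LThree {F : Type*} [Field F] (Q₁ Q₂ D : Subgroup G) (x y z : G → F) (t₁ t₂ : G) (ω₁ ω₂ : F) :
    Prop where
  x_mul : ∀ u ∈ Q₁, ∀ v ∈ Q₁, x (u * v) = x u + x v
  x_surj : ∀ a, ∃ u ∈ Q₁, x u = a
  x_ker : ∀ u ∈ Q₁, x u = 0 ↔ u ∈ D
  y_mul : ∀ u ∈ Q₂, ∀ v ∈ Q₂, y (u * v) = y u + y v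
  y_surj : ∀ a, ∃ u ∈ Q₂, y u = a
  y_ker : ∀ u ∈ Q₂, y u = 0 ↔ u ∈ D
  z_mul : ∀ u ∈ D, ∀ v ∈ D, z (u * v) = z u + z v
  z_surj : ∀ a, ∃ u ∈ D, z u = a
  z_inj : ∀ u ∈ D, z u = 0 → u = 1
  com : ∀ u ∈ Q₁, ∀ v ∈ Q₂, z (cm u v) = x u * y v
  t₁x : ∀ u ∈ Q₁, x (t₁ * u * t₁⁻¹) = ω₁⁻¹ * x u
  t₁y : ∀ v ∈ Q₂, y (t₁ * v * t₁⁻¹) = ω₁ ^ 2 * y v
  t₁z : ∀ d ∈ D, z (t₁ * d * t₁⁻¹) = ω₁ * z d
  t₂x : ∀ u ∈ Q₁, x (t₂ * u * t₂⁻¹) = ω₂ ^ 2 * x u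
  t₂y : ∀ v ∈ Q₂, y (t₂ * v * t₂⁻¹) = ω₂⁻¹ * y v
  t₂z : ∀ d ∈ D, z (t₂ * d * t₂⁻¹) = ω₂ * z d
  gen₁ : ∀ a : F, a ≠ 0 → ∃ n : ℕ, a = ω₁ ^ n
  gen₂ : ∀ a : F, a ≠ 0 → ∃ n : ℕ, a = ω₂ ^ n

/-- `S₀ = Q₁Q₂` is a Sylow 2-subgroup of `Sp₄(q)` with a torus. -/
structure SpFour {F : Type*} [Field F] (Q₁ Q₂ D C₁ C₂ : Subgroup G) (x y z z' : G → F) (t₁ t₂ : G)
    (ω₁ ω₂ : F) : Prop where
  x_mul : ∀ u ∈ Q₁, ∀ v ∈ Q₁, x (u * v) = x u + x v
  x_surj : ∀ a, ∃ u ∈ Q₁, x u = a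
  x_ker : ∀ u ∈ Q₁, x u = 0 ↔ u ∈ D
  y_mul : ∀ u ∈ Q₂, ∀ v ∈ Q₂, y (u * v) = y u + y v
  y_surj : ∀ a, ∃ u ∈ Q₂, y u = a
  y_ker : ∀ u ∈ Q₂, y u = 0 ↔ u ∈ D
  z_mul : ∀ u ∈ D, ∀ v ∈ D, z (u * v) = z u + z v
  z'_mul : ∀ u ∈ D, ∀ v ∈ D, z' (u * v) = z' u + z' v
  z_surj : ∀ a a', ∃ u ∈ D, z u = a ∧ z' u = a'
  z_ker : ∀ u ∈ D, z u = 0 ↔ u ∈ C₁
  z'_ker : ∀ u ∈ D, z' u = 0 ↔ u ∈ C₂
  z_inj : ∀ u ∈ D, z u = 0 → z' u = 0 → u = 1
  com : ∀ u ∈ Q₁, ∀ v ∈ Q₂, z (cm u v) = x u * y v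
  com' : ∀ u ∈ Q₁, ∀ v ∈ Q₂, z' (cm u v) = x u * x u * y v
  t₁x : ∀ u ∈ Q₁, x (t₁ * u * t₁⁻¹) = ω₁⁻¹ * x u
  t₁y : ∀ v ∈ Q₂, y (t₁ * v * t₁⁻¹) = ω₁ ^ 2 * y v
  t₁z : ∀ d ∈ D, z (t₁ * d * t₁⁻¹) = ω₁ * z d
  t₁z' : ∀ d ∈ D, z' (t₁ * d * t₁⁻¹) = z' d
  t₂x : ∀ u ∈ Q₁, x (t₂ * u * t₂⁻¹) = ω₂ * x u
  t₂y : ∀ v ∈ Q₂, y (t₂ * v * t₂⁻¹) = ω₂⁻¹ * y v
  t₂z : ∀ d ∈ D, z (t₂ * d * t₂⁻¹) = z d
  t₂z' : ∀ d ∈ D, z' (t₂ * d * t₂⁻¹) = ω₂ * z' d
  gen₁ : ∀ a : F, a ≠ 0 → ∃ n : ℕ, a = ω₁ ^ n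
  gen₂ : ∀ a : F, a ≠ 0 → ∃ n : ℕ, a = ω₂ ^ n

/-- The equation `(*)`. -/
structure Star {F : Type*} [Field F] (Q₁ Q₂ D C₁ C₂ : Subgroup G) (x y z x₂ y₂ z₂ : G → F) (t₁ t₂ : G)
    (ω₁ ω₂ : F) (s : F → G) (B : F → F → G) (μ κ g h : F →+ F) : Prop where
  sD : ∀ a, s a ∈ D
  sz : ∀ a, z (s a) = a
  s_add : ∀ a a', s (a + a') = s a * s a'
  ts : ∀ a, t₁ * s a * t₁⁻¹ = s (ω₁ * a)
  th : ∀ d ∈ D, t₁ * d * t₁⁻¹ * d⁻¹ = s ((ω₁ - 1) * z d)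
  BD : ∀ p q, B p q ∈ D
  Bc : ∀ u ∈ Q₁, ∀ v ∈ Q₂, cm u v = B (x u) (y v)
  Bz : ∀ p q, z (B p q) = p * q
  μs : ∀ a, z₂ (s a) = μ a
  κB : ∀ a, z₂ (B 1 a * (s a)⁻¹) = κ a
  gx : ∀ u ∈ Q₁, x₂ u = g (x u)
  hy : ∀ v ∈ Q₂, y₂ v = h (y v)
  ginj : Function.Injective g
  hinj : Function.Injective h
  Bz₂ : ∀ p q, z₂ (B p q) = g p * h q
  eqn : ∀ p q, μ (p * q) + κ (p * p * q) = g p * h q
  γ : ∀ p q, z₂ (B p q * (s (p * q))⁻¹) = κ (p * p * q)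

variable {F : Type*} [Field F] {Q₁ Q₂ D C₁ C₂ : Subgroup G} {x y z x₂ y₂ z₂ : G → F} {t₁ t₂ : G} {ω₁ ω₂ : F}

theorem exists_star (b : Base Q₁ Q₂ D) (co₁ : Co Q₁ Q₂ D C₁ x y z t₁ ω₁) (co₂ : Co Q₂ Q₁ D C₂ y₂ x₂ z₂ t₂ ω₂) :
    ∃ s B μ κ g h, Star Q₁ Q₂ D C₁ C₂ x y z x₂ y₂ z₂ t₁ t₂ ω₁ ω₂ s B μ κ g h := by
  obtain ⟨s, sD, sz, s_add, ts, th⟩ := co₁.exists_s b
  obtain ⟨B, BD, Bc⟩ := co₁.exists_B b
  have h2 := co₁.two_eq b
  -- `g`
  choose u huQ hux using co₁.x_surj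
  choose v hvQ hvy using co₁.y_surj
  have hx : ∀ a ∈ Q₁, ∀ b' ∈ Q₁, x a = x b' → x₂ a = x₂ b' := by
    intro a ha b' hb' hab
    have h1 : a * b'⁻¹ ∈ D := (co₁.x_ker _ (mul_mem ha (inv_mem hb'))).1 (by
      rw [co₁.x_mul _ ha _ (inv_mem hb'), add_inv' co₁.x_mul hb', hab, add_neg_cancel])
    have h3 := (co₂.y_ker _ (mul_mem ha (inv_mem hb'))).2 h1
    rw [co₂.y_mul _ ha _ (inv_mem hb'), add_inv' co₂.y_mul hb'] at h3
    linear_combination h3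
  have hy : ∀ a ∈ Q₂, ∀ b' ∈ Q₂, y a = y b' → y₂ a = y₂ b' := by
    intro a ha b' hb' hab
    have h1 : a * b'⁻¹ ∈ D := (co₁.y_ker _ (mul_mem ha (inv_mem hb'))).1 (by
      rw [co₁.y_mul _ ha _ (inv_mem hb'), add_inv' co₁.y_mul hb', hab, add_neg_cancel])
    have h3 := (co₂.x_ker _ (mul_mem ha (inv_mem hb'))).2 h1
    rw [co₂.x_mul _ ha _ (inv_mem hb'), add_inv' co₂.x_mul hb'] at h3
    linear_combination h3
  let g : F →+ F := AddMonoidHom.mk' (fun p => x₂ (u p)) fun p q => by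
    rw [← co₂.y_mul _ (huQ _) _ (huQ _)]
    exact hx _ (huQ _) _ (mul_mem (huQ _) (huQ _)) (by rw [co₁.x_mul _ (huQ _) _ (huQ _), hux, hux, hux])
  let h : F →+ F := AddMonoidHom.mk' (fun p => y₂ (v p)) fun p q => by
    rw [← co₂.x_mul _ (hvQ _) _ (hvQ _)]
    exact hy _ (hvQ _) _ (mul_mem (hvQ _) (hvQ _)) (by rw [co₁.y_mul _ (hvQ _) _ (hvQ _), hvy, hvy, hvy])
  let μ : F →+ F := AddMonoidHom.mk' (fun a => z₂ (s a)) fun p q => by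
    rw [s_add, co₂.z_mul _ (sD _) _ (sD _)]
  have gx : ∀ u' ∈ Q₁, x₂ u' = g (x u') := fun u' hu' => hx _ hu' _ (huQ _) (hux _).symm
  have hy' : ∀ v' ∈ Q₂, y₂ v' = h (y v') := fun v' hv' => hy _ hv' _ (hvQ _) (hvy _).symm
  have ginj : Function.Injective g := (injective_iff_map_eq_zero g).2 fun p hp => by
    have h1 : x₂ (u p) = 0 := hp
    rw [co₂.y_ker _ (huQ _), ← co₁.x_ker _ (huQ _), hux] at h1
    exact h1
  have hinj : Function.Injective h := (injective_iff_map_eq_zero h).2 fun p hp => by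
    have h1 : y₂ (v p) = 0 := hp
    rw [co₂.x_ker _ (hvQ _), ← co₁.y_ker _ (hvQ _), hvy] at h1
    exact h1
  have Bpq : ∀ p q, B p q = cm (u p) (v q) := fun p q => by rw [Bc _ (huQ _) _ (hvQ _), hux, hvy]
  have Bz : ∀ p q, z (B p q) = p * q := fun p q => by
    rw [Bpq, co₁.com _ (huQ _) _ (hvQ _), hux, hvy]
  have Bz₂ : ∀ p q, z₂ (B p q) = g p * h q := fun p q => by
    rw [Bpq, ← b.cm_inv (huQ _) (hvQ _), co₂.com _ (hvQ _) _ (huQ _), mul_comm]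
    rfl
  have Badd : ∀ p q q', B p (q + q') = B p q * B p q' := fun p q q' => by
    rw [Bpq p q, Bpq p q', ← b.cm_mul_right (huQ _) (hvQ _) (hvQ _), Bc _ (huQ _) _ (mul_mem (hvQ _) (hvQ _)),
      co₁.y_mul _ (hvQ _) _ (hvQ _), hux, hvy, hvy]
  have hγC : ∀ p q, B p q * (s (p * q))⁻¹ ∈ C₁ := fun p q =>
    (co₁.z_ker _ (mul_mem (BD _ _) (inv_mem (sD _)))).1 (by
      rw [co₁.z_mul _ (BD _ _) _ (inv_mem (sD _)), add_inv' co₁.z_mul (sD _), Bz, sz, add_neg_cancel])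
  -- torus invariance
  have hγt : ∀ p q, B (ω₁⁻¹ * p) (ω₁ ^ 2 * q) * (s (ω₁⁻¹ * p * (ω₁ ^ 2 * q)))⁻¹ = B p q * (s (p * q))⁻¹ := by
    intro p q
    have h1 := co₁.tC _ (hγC p q)
    have h3 : t₁ * B p q * t₁⁻¹ = B (ω₁⁻¹ * p) (ω₁ ^ 2 * q) := by
      rw [Bpq p q, cm_conj, Bc _ (co₁.tQ₁ _ (huQ _)) _ (co₁.tQ₂ _ (hvQ _)), co₁.tx _ (huQ _), co₁.ty b (hvQ _), hux, hvy]
    have h0 := co₁.ω0
    have h4 : ω₁⁻¹ * p * (ω₁ ^ 2 * q) = ω₁ * (p * q) := by field_simp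
    rw [← h3, h4, ← ts]
    rw [← h1]
    group
  have hγn : ∀ n : ℕ, ∀ p q, B ((ω₁ ^ n)⁻¹ * p) ((ω₁ ^ n) ^ 2 * q) * (s ((ω₁ ^ n)⁻¹ * p * ((ω₁ ^ n) ^ 2 * q)))⁻¹
      = B p q * (s (p * q))⁻¹ := by
    intro n
    induction n with
    | zero => intro p q; simp
    | succ n ih =>
      intro p q
      have h1 := hγt ((ω₁ ^ n)⁻¹ * p) ((ω₁ ^ n) ^ 2 * q)
      rw [ih] at h1
      rw [← h1]
      have e1 : (ω₁ ^ (n + 1))⁻¹ * p = ω₁⁻¹ * ((ω₁ ^ n)⁻¹ * p) := by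
        rw [pow_succ, mul_inv]; ring
      have e2 : (ω₁ ^ (n + 1)) ^ 2 * q = ω₁ ^ 2 * ((ω₁ ^ n) ^ 2 * q) := by
        rw [pow_succ]; ring
      rw [e1, e2]
  let κ : F →+ F := AddMonoidHom.mk' (fun a => z₂ (B 1 a * (s a)⁻¹)) fun p q => by
    rw [Badd, s_add, mul_inv_rev]
    rw [← co₂.z_mul _ (mul_mem (BD _ _) (inv_mem (sD _))) _ (mul_mem (BD _ _) (inv_mem (sD _)))]
    congr 1
    have h1 := b.comm₁ (b.D₁ (inv_mem (sD q))) (b.D₁ (inv_mem (sD p)))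
    have h3 := b.comm₁ (b.D₁ (BD 1 q)) (b.D₁ (inv_mem (sD p)))
    calc B 1 p * B 1 q * ((s q)⁻¹ * (s p)⁻¹) = B 1 p * (B 1 q * ((s q)⁻¹ * (s p)⁻¹)) := by group
      _ = B 1 p * (B 1 q * ((s p)⁻¹ * (s q)⁻¹)) := by rw [h1]
      _ = B 1 p * ((B 1 q * (s p)⁻¹) * (s q)⁻¹) := by group
      _ = B 1 p * (((s p)⁻¹ * B 1 q) * (s q)⁻¹) := by rw [h3]
      _ = B 1 p * (s p)⁻¹ * (B 1 q * (s q)⁻¹) := by group
  have γ : ∀ p q, z₂ (B p q * (s (p * q))⁻¹) = κ (p * p * q) := by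
    intro p q
    by_cases hp : p = 0
    · subst hp
      have h1 : B 0 q = 1 := by
        have h3 : u 0 ∈ D := (co₁.x_ker _ (huQ _)).1 (hux 0)
        rw [Bpq, b.cm_D_left h3 (hvQ _)]
      have h3 : s 0 = 1 := by
        have h4 := s_add 0 0
        rw [add_zero] at h4
        exact left_eq_mul.1 h4
      rw [zero_mul, zero_mul, zero_mul, map_zero, h1, h3, inv_one, mul_one]
      exact add_one' co₂.z_mul
    · obtain ⟨n, hn⟩ := co₁.gen p hp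
      have h1 := hγn n p q
      rw [← hn] at h1
      have e1 : p⁻¹ * p = 1 := inv_mul_cancel₀ hp
      have e2 : p ^ 2 * q = p * p * q := by ring
      rw [e1, e2, one_mul] at h1
      rw [← h1]
      rfl
  have eqn : ∀ p q, μ (p * q) + κ (p * p * q) = g p * h q := by
    intro p q
    rw [← γ, ← Bz₂, co₂.z_mul _ (BD _ _) _ (inv_mem (sD _)), add_inv' co₂.z_mul (sD _)]
    change z₂ (s (p * q)) + _ = _
    ring
  exact ⟨s, B, μ, κ, g, h, sD, sz, s_add, ts, th, BD, Bc, Bz, fun a => rfl, fun a => rfl, gx, hy', ginj, hinj, Bz₂,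
    eqn, γ⟩

theorem conj_surj [Finite G] {H : Subgroup G} (t : G) (ht : ∀ u ∈ H, t * u * t⁻¹ ∈ H) (u : G) (hu : u ∈ H) :
    ∃ w ∈ H, t * w * t⁻¹ = u := by
  have h1 : Function.Surjective (fun w : H => (⟨t * w * t⁻¹, ht w w.2⟩ : H)) := by
    apply Finite.surjective_of_injective
    intro a b hab
    have h2 : t * (a : G) * t⁻¹ = t * b * t⁻¹ := congrArg Subtype.val hab
    exact Subtype.ext (by simpa using h2)
  obtain ⟨w, hw⟩ := h1 ⟨u, hu⟩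
  exact ⟨w, w.2, congrArg Subtype.val hw⟩

namespace Star

variable {s : F → G} {B : F → F → G} {μ κ g h : F →+ F}

/-- the case `μ = 0`: `S₀` is of type `Sp₄(q)` -/
theorem spFour [Finite F] (b : Base Q₁ Q₂ D) (co₁ : Co Q₁ Q₂ D C₁ x y z t₁ ω₁) (co₂ : Co Q₂ Q₁ D C₂ y₂ x₂ z₂ t₂ ω₂)
    (hC : C₁ ⊓ C₂ = ⊥) (st : Star Q₁ Q₂ D C₁ C₂ x y z x₂ y₂ z₂ t₁ t₂ ω₁ ω₂ s B μ κ g h) (hμ : μ = 0) :
    ∃ (z' : G → F) (ω : F), SpFour Q₁ Q₂ D C₁ C₂ x y z z' t₁ t₂ ω₁ ω := by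
  have := co₁.charTwo b
  obtain ⟨ρ, hκ, hg, hh⟩ := semi_sq κ g h st.ginj st.hinj fun p q => by
    have h1 := st.eqn p q
    rwa [hμ, AddMonoidHom.zero_apply, zero_add] at h1
  have hg1 : g 1 ≠ 0 := fun h' => one_ne_zero (st.ginj (h'.trans (map_zero g).symm))
  have hh1 : h 1 ≠ 0 := fun h' => one_ne_zero (st.hinj (h'.trans (map_zero h).symm))
  have e1 : κ 1 = g 1 * h 1 := by
    have h1 := st.eqn 1 1
    rwa [hμ, AddMonoidHom.zero_apply, zero_add, one_mul, one_mul] at h1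
  have hκ1 : κ 1 ≠ 0 := by rw [e1]; exact mul_ne_zero hg1 hh1
  have hωρ : ρ.symm ω₂ ≠ 0 := fun h' => co₂.ω0 (by simpa using h')
  have z'z : ∀ d, z₂ d = κ 1 * ρ (ρ.symm ((κ 1)⁻¹ * z₂ d)) := fun d => by
    rw [RingEquiv.apply_symm_apply]; field_simp
  have com' : ∀ u ∈ Q₁, ∀ v ∈ Q₂, ρ.symm ((κ 1)⁻¹ * z₂ (cm u v)) = x u * x u * y v := by
    intro u hu v hv
    rw [st.Bc u hu v hv, st.Bz₂, hg, hh, e1]
    apply ρ.injective
    rw [RingEquiv.apply_symm_apply, map_mul, map_mul]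
    field_simp
  have zinj : ∀ u ∈ D, z u = 0 → ρ.symm ((κ 1)⁻¹ * z₂ u) = 0 → u = 1 := by
    intro u hu h1 h2
    have h3 : z₂ u = 0 := by rw [z'z u, h2, map_zero, mul_zero]
    have h4 : u ∈ C₁ ⊓ C₂ := ⟨(co₁.z_ker u hu).1 h1, (co₂.z_ker u hu).1 h3⟩
    rwa [hC, mem_bot] at h4
  have t₂x : ∀ u ∈ Q₁, x (t₂ * u * t₂⁻¹) = ρ.symm ω₂ * x u := by
    intro u hu
    have h1 := co₂.ty b.symm hu
    rw [st.gx _ (co₂.tQ₂ u hu), st.gx u hu, hg (x (t₂ * u * t₂⁻¹)), hg (x u)] at h1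
    have h2 : ρ (x (t₂ * u * t₂⁻¹)) * ρ (x (t₂ * u * t₂⁻¹)) = (ω₂ * ρ (x u)) * (ω₂ * ρ (x u)) := by
      apply mul_left_cancel₀ hg1
      rw [h1]; ring
    have h3 : ρ (x (t₂ * u * t₂⁻¹)) = ω₂ * ρ (x u) := by
      have h4 : (ρ (x (t₂ * u * t₂⁻¹)) + ω₂ * ρ (x u)) * (ρ (x (t₂ * u * t₂⁻¹)) + ω₂ * ρ (x u)) = 0 := by
        have h5 := co₁.two_eq b
        linear_combination h2 + (ρ (x (t₂ * u * t₂⁻¹)) * (ω₂ * ρ (x u)) + ω₂ * ρ (x u) * (ω₂ * ρ (x u))) * h5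
      exact CharTwo.add_eq_zero.1 (mul_self_eq_zero.1 h4)
    apply ρ.injective
    rw [h3, map_mul, RingEquiv.apply_symm_apply]
  have t₂y : ∀ v ∈ Q₂, y (t₂ * v * t₂⁻¹) = (ρ.symm ω₂)⁻¹ * y v := by
    intro v hv
    have h1 := co₂.tx v hv
    rw [st.hy _ (co₂.tQ₁ v hv), st.hy v hv, hh (y (t₂ * v * t₂⁻¹)), hh (y v)] at h1
    apply ρ.injective
    rw [map_mul, map_inv₀, RingEquiv.apply_symm_apply]
    apply mul_left_cancel₀ hh1
    rw [h1]; ring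
  have hsurj : ∀ a a', ∃ u ∈ D, z u = a ∧ ρ.symm ((κ 1)⁻¹ * z₂ u) = a' := by
    intro a a'
    have hκs : Function.Surjective κ := by
      refine Finite.surjective_of_injective ((injective_iff_map_eq_zero κ).2 fun v hv => ?_)
      rw [hκ] at hv
      simpa using (mul_eq_zero.1 hv).resolve_left hκ1
    obtain ⟨v, hv⟩ := hκs (κ 1 * ρ a')
    refine ⟨s a * (B 1 v * (s v)⁻¹), mul_mem (st.sD _) (mul_mem (st.BD _ _) (inv_mem (st.sD _))), ?_, ?_⟩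
    · rw [co₁.z_mul _ (st.sD _) _ (mul_mem (st.BD _ _) (inv_mem (st.sD _))),
        co₁.z_mul _ (st.BD _ _) _ (inv_mem (st.sD _)), add_inv' co₁.z_mul (st.sD _), st.sz, st.sz, st.Bz]
      ring
    · rw [co₂.z_mul _ (st.sD _) _ (mul_mem (st.BD _ _) (inv_mem (st.sD _))), st.κB, st.μs, hμ,
        AddMonoidHom.zero_apply, zero_add, hv]
      apply ρ.injective
      rw [RingEquiv.apply_symm_apply]; field_simp
  have hBmem : ∀ p q, ∃ u ∈ Q₁, ∃ v ∈ Q₂, x u = p ∧ y v = q ∧ B p q = cm u v := by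
    intro p q
    obtain ⟨u, hu, rfl⟩ := co₁.x_surj p
    obtain ⟨v, hv, rfl⟩ := co₁.y_surj q
    exact ⟨u, hu, v, hv, rfl, rfl, (st.Bc u hu v hv).symm⟩
  have zmul' : ∀ u ∈ D, ∀ v ∈ D, ρ.symm ((κ 1)⁻¹ * z₂ (u * v)) =
      ρ.symm ((κ 1)⁻¹ * z₂ u) + ρ.symm ((κ 1)⁻¹ * z₂ v) := by
    intro u hu v hv
    rw [co₂.z_mul u hu v hv, mul_add, map_add]
  -- the commutators generate
  have hgen : ∀ f : G → F, (∀ u ∈ D, ∀ v ∈ D, f (u * v) = f u + f v) →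
      (∀ u ∈ Q₁, ∀ v ∈ Q₂, f (cm u v) = 0) → ∀ d ∈ D, f d = 0 := by
    intro f hf hf0
    have h1 : ∀ d ∈ D, z d ≠ 0 → ρ.symm ((κ 1)⁻¹ * z₂ d) ≠ 0 → f d = 0 := by
      intro d hd ha ha'
      set a := z d with hza
      set a' := ρ.symm ((κ 1)⁻¹ * z₂ d) with hza'
      obtain ⟨u, hu, v, hv, hxu, hyv, -⟩ := hBmem (a' / a) (a * a / a')
      have h2 : z (d * (cm u v)⁻¹) = 0 := by
        rw [co₁.z_mul _ hd _ (inv_mem (b.mem u hu v hv)), add_inv' co₁.z_mul (b.mem u hu v hv), co₁.com u hu v hv,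
          hxu, hyv, ← hza]
        field_simp
        ring
      have h3 : ρ.symm ((κ 1)⁻¹ * z₂ (d * (cm u v)⁻¹)) = 0 := by
        rw [zmul' _ hd _ (inv_mem (b.mem u hu v hv)), add_inv' co₂.z_mul (b.mem u hu v hv), mul_neg, map_neg,
          com' u hu v hv, hxu, hyv, ← hza']
        field_simp
        ring
      have h4 := zinj _ (mul_mem hd (inv_mem (b.mem u hu v hv))) h2 h3
      rw [mul_inv_eq_one.1 h4]
      exact hf0 u hu v hv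
    intro d hd
    have hone : (1 : F) ≠ 0 := one_ne_zero
    have hω0 := co₁.ω0
    have hω1 : 1 - ω₁ ≠ 0 := sub_ne_zero.2 co₁.ω1.symm
    have h2 : ∀ a a' c c', z d = a + c → ρ.symm ((κ 1)⁻¹ * z₂ d) = a' + c' → a ≠ 0 → a' ≠ 0 → c ≠ 0 → c' ≠ 0 →
        f d = 0 := by
      intro a a' c c' e e' ha ha' hc hc'
      obtain ⟨u, hu, hu1, hu2⟩ := hsurj a a'
      have h3 : z (d * u⁻¹) = c := by
        rw [co₁.z_mul _ hd _ (inv_mem hu), add_inv' co₁.z_mul hu, hu1, e]; ring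
      have h4 : ρ.symm ((κ 1)⁻¹ * z₂ (d * u⁻¹)) = c' := by
        rw [zmul' _ hd _ (inv_mem hu), add_inv' co₂.z_mul hu, mul_neg, map_neg, hu2, e']; ring
      have h5 : d = (d * u⁻¹) * u := by group
      rw [h5, hf _ (mul_mem hd (inv_mem hu)) _ hu, h1 _ (mul_mem hd (inv_mem hu)) (by rw [h3]; exact hc) (by rw [h4]; exact hc'),
        h1 u hu (by rw [hu1]; exact ha) (by rw [hu2]; exact ha'), add_zero]
    by_cases ha : z d = 0
    · by_cases ha' : ρ.symm ((κ 1)⁻¹ * z₂ d) = 0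
      · rw [zinj d hd ha ha']
        exact add_one' hf
      · exact h2 1 (ω₁ * ρ.symm ((κ 1)⁻¹ * z₂ d)) (-1) ((1 - ω₁) * ρ.symm ((κ 1)⁻¹ * z₂ d)) (by rw [ha]; ring) (by ring)
          hone (mul_ne_zero hω0 ha') (neg_ne_zero.2 hone) (mul_ne_zero hω1 ha')
    · by_cases ha' : ρ.symm ((κ 1)⁻¹ * z₂ d) = 0
      · exact h2 (ω₁ * z d) 1 ((1 - ω₁) * z d) (-1) (by ring) (by rw [ha']; ring)
          (mul_ne_zero hω0 ha) hone (mul_ne_zero hω1 ha) (neg_ne_zero.2 hone)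
      · exact h1 d hd ha ha'
  have t₂z : ∀ d ∈ D, z (t₂ * d * t₂⁻¹) = z d := by
    intro d hd
    have h1 := hgen (fun d => z (t₂ * d * t₂⁻¹) - z d) (fun u hu v hv => by
      have e : t₂ * (u * v) * t₂⁻¹ = (t₂ * u * t₂⁻¹) * (t₂ * v * t₂⁻¹) := by group
      rw [e, co₁.z_mul _ (co₂.tD u hu) _ (co₂.tD v hv), co₁.z_mul u hu v hv]; ring) (fun u hu v hv => by
      rw [cm_conj, co₁.com _ (co₂.tQ₂ u hu) _ (co₂.tQ₁ v hv), t₂x u hu, t₂y v hv, co₁.com u hu v hv]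
      field_simp
      ring) d hd
    exact sub_eq_zero.1 h1
  exact ⟨fun d => ρ.symm ((κ 1)⁻¹ * z₂ d), ρ.symm ω₂,
    { x_mul := co₁.x_mul
      x_surj := co₁.x_surj
      x_ker := co₁.x_ker
      y_mul := co₁.y_mul
      y_surj := co₁.y_surj
      y_ker := co₁.y_ker
      z_mul := co₁.z_mul
      z'_mul := zmul'
      z_surj := hsurj
      z_ker := co₁.z_ker
      z'_ker := fun d hd => by
        rw [← co₂.z_ker d hd]
        constructor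
        · intro h'
          rw [z'z d, h', map_zero, mul_zero]
        · intro h'
          simp only [h', mul_zero, map_zero]
      z_inj := zinj
      com := co₁.com
      com' := com'
      t₁x := co₁.tx
      t₁y := fun v hv => co₁.ty b hv
      t₁z := co₁.tz
      t₁z' := fun d hd => by
        have h1 := congrArg z₂ (st.th d hd)
        rw [co₂.z_mul _ (co₁.tD d hd) _ (inv_mem hd), add_inv' co₂.z_mul hd, st.μs, hμ, AddMonoidHom.zero_apply] at h1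
        have h2 : z₂ (t₁ * d * t₁⁻¹) = z₂ d := by linear_combination h1
        simp only [h2]
      t₂x := t₂x
      t₂y := t₂y
      t₂z := t₂z
      t₂z' := fun d hd => by
        rw [co₂.tz d hd, ← map_mul]
        congr 1
        ring
      gen₁ := co₁.gen
      gen₂ := fun a ha => by
        obtain ⟨n, hn⟩ := co₂.gen (ρ a) (by simpa using ha)
        refine ⟨n, ρ.injective ?_⟩
        rw [map_pow, RingEquiv.apply_symm_apply, hn] }⟩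

/-- the case `κ = 0`: `S₀` is of type `L₃(q)` -/
theorem lThree [Finite G] [Finite F] (b : Base Q₁ Q₂ D) (co₁ : Co Q₁ Q₂ D C₁ x y z t₁ ω₁)
    (co₂ : Co Q₂ Q₁ D C₂ y₂ x₂ z₂ t₂ ω₂) (hC : C₁ ⊓ C₂ = ⊥)
    (hR : ∀ r : G, (∀ u ∈ Q₁, r * u * r⁻¹ * u⁻¹ ∈ D) → (∀ v ∈ Q₂, r * v * r⁻¹ * v⁻¹ ∈ D) →
      (∀ d ∈ D, ∃ u ∈ Q₁, ∃ v ∈ Q₂, r * d * r⁻¹ * d⁻¹ = cm u v) →
      (∀ u ∈ Q₁, ∀ v ∈ Q₂, r * cm u v * r⁻¹ = cm u v) → ∀ d ∈ D, r * d * r⁻¹ = d)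
    (st : Star Q₁ Q₂ D C₁ C₂ x y z x₂ y₂ z₂ t₁ t₂ ω₁ ω₂ s B μ κ g h) (hκ : κ = 0) :
    C₁ = ⊥ ∧ C₂ = ⊥ ∧ ∃ ω : F, LThree Q₁ Q₂ D x y z t₁ t₂ ω₁ ω := by
  obtain ⟨ρ, hμ, hg, hh⟩ := semi_mul μ g h st.ginj st.hinj fun p q => by
    have h1 := st.eqn p q
    rwa [hκ, AddMonoidHom.zero_apply, add_zero] at h1
  have hg1 : g 1 ≠ 0 := fun h' => one_ne_zero (st.ginj (h'.trans (map_zero g).symm))
  have hh1 : h 1 ≠ 0 := fun h' => one_ne_zero (st.hinj (h'.trans (map_zero h).symm))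
  have e1 : μ 1 = g 1 * h 1 := by
    have h1 := st.eqn 1 1
    rwa [hκ, AddMonoidHom.zero_apply, add_zero, one_mul] at h1
  have hμ1 : μ 1 ≠ 0 := by rw [e1]; exact mul_ne_zero hg1 hh1
  set ω := ρ.symm ω₂ with hω
  have hρω : ρ ω = ω₂ := by rw [hω, RingEquiv.apply_symm_apply]
  have hω0 : ω ≠ 0 := fun h' => co₂.ω0 (by rw [← hρω, h', map_zero])
  have hs0 : s 0 = 1 := by
    have h4 := st.s_add 0 0
    rw [add_zero] at h4
    exact left_eq_mul.1 h4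
  have μinj : ∀ a, μ a = 0 → a = 0 := fun a ha => by
    rw [hμ] at ha
    simpa using (mul_eq_zero.1 ha).resolve_left hμ1
  have μsurj : ∀ a, ∃ a', μ a' = a := fun a => ⟨ρ.symm ((μ 1)⁻¹ * a), by
    rw [hμ, RingEquiv.apply_symm_apply]; field_simp⟩
  -- `B p q = s (p q)`
  have hB : ∀ p q, B p q = s (p * q) := by
    intro p q
    have hm : B p q * (s (p * q))⁻¹ ∈ D := mul_mem (st.BD _ _) (inv_mem (st.sD _))
    have h1 : B p q * (s (p * q))⁻¹ ∈ C₁ := (co₁.z_ker _ hm).1 (by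
      rw [co₁.z_mul _ (st.BD _ _) _ (inv_mem (st.sD _)), add_inv' co₁.z_mul (st.sD _), st.Bz, st.sz, add_neg_cancel])
    have h2 : B p q * (s (p * q))⁻¹ ∈ C₂ := (co₂.z_ker _ hm).1 (by
      rw [st.γ, hκ, AddMonoidHom.zero_apply])
    have h3 : B p q * (s (p * q))⁻¹ ∈ C₁ ⊓ C₂ := ⟨h1, h2⟩
    rw [hC, mem_bot] at h3
    exact mul_inv_eq_one.1 h3
  have t₂x : ∀ u ∈ Q₁, x (t₂ * u * t₂⁻¹) = ω ^ 2 * x u := by
    intro u hu
    have h1 := co₂.ty b.symm hu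
    rw [st.gx _ (co₂.tQ₂ u hu), st.gx u hu, hg (x (t₂ * u * t₂⁻¹)), hg (x u)] at h1
    apply ρ.injective
    apply mul_left_cancel₀ hg1
    rw [h1, map_mul, map_pow, hρω]; ring
  have t₂y : ∀ v ∈ Q₂, y (t₂ * v * t₂⁻¹) = ω⁻¹ * y v := by
    intro v hv
    have h1 := co₂.tx v hv
    rw [st.hy _ (co₂.tQ₁ v hv), st.hy v hv, hh (y (t₂ * v * t₂⁻¹)), hh (y v)] at h1
    apply ρ.injective
    apply mul_left_cancel₀ hh1
    rw [h1, map_mul, map_inv₀, hρω]; ring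
  have hscm : ∀ a, ∃ u ∈ Q₁, ∃ v ∈ Q₂, x u * y v = a ∧ s a = cm u v := by
    intro a
    obtain ⟨u, hu, hu1⟩ := co₁.x_surj 1
    obtain ⟨v, hv, rfl⟩ := co₁.y_surj a
    exact ⟨u, hu, v, hv, by rw [hu1, one_mul], by rw [st.Bc u hu v hv, hB, hu1, one_mul]⟩
  have cms : ∀ u ∈ Q₁, ∀ v ∈ Q₂, cm u v = s (x u * y v) := fun u hu v hv => by
    rw [st.Bc u hu v hv, hB]
  have t₂s : ∀ a, t₂ * s a * t₂⁻¹ = s (ω * a) := by
    intro a
    obtain ⟨u, hu, v, hv, rfl, e⟩ := hscm a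
    rw [e, cm_conj, cms _ (co₂.tQ₂ u hu) _ (co₂.tQ₁ v hv), t₂x u hu, t₂y v hv]
    congr 1
    field_simp
  -- `t₂` is trivial on `D / D₁`
  have th₂ : ∀ d ∈ D, ∃ a, t₂ * d * t₂⁻¹ * d⁻¹ = s a := by
    intro d hd
    obtain ⟨a, ha⟩ := μsurj (z₂ d)
    have h1 : d * (s a)⁻¹ ∈ C₂ := (co₂.z_ker _ (mul_mem hd (inv_mem (st.sD _)))).1 (by
      rw [co₂.z_mul _ hd _ (inv_mem (st.sD _)), add_inv' co₂.z_mul (st.sD _), st.μs, ha, add_neg_cancel])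
    have h2 := co₂.tC _ h1
    refine ⟨ω * a + a, ?_⟩
    rw [st.s_add, ← t₂s]
    have h3 : t₂ * d * t₂⁻¹ = (d * (s a)⁻¹) * (t₂ * s a * t₂⁻¹) := by rw [← h2]; group
    rw [h3]
    have h4 := b.comm₁ (b.D₁ hd) (b.D₁ (mul_mem (inv_mem (st.sD a)) (co₂.tD _ (st.sD a))))
    have h5 := b.comm₁ (b.D₁ (inv_mem (st.sD a))) (b.D₁ (co₂.tD _ (st.sD a)))
    calc d * (s a)⁻¹ * (t₂ * s a * t₂⁻¹) * d⁻¹ = d * ((s a)⁻¹ * (t₂ * s a * t₂⁻¹)) * d⁻¹ := by group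
      _ = ((s a)⁻¹ * (t₂ * s a * t₂⁻¹)) := by rw [h4]; group
      _ = (t₂ * s a * t₂⁻¹) * (s a)⁻¹ := h5
      _ = t₂ * s a * t₂⁻¹ * s a := by rw [b.inv₁ (b.D₁ (st.sD a))]
  -- the commutator `r`
  set r : G := t₁ * t₂ * t₁⁻¹ * t₂⁻¹ with hr
  have hrw : ∀ w : G, r * (t₂ * (t₁ * w * t₁⁻¹) * t₂⁻¹) * r⁻¹ = t₁ * (t₂ * w * t₂⁻¹) * t₁⁻¹ := by
    intro w; rw [hr]; group
  have key : ∀ w ∈ D, t₁ * (t₂ * w * t₂⁻¹) * t₁⁻¹ = t₂ * (t₁ * w * t₁⁻¹) * t₂⁻¹ := by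
    intro w hw
    rw [← hrw]
    refine hR r ?_ ?_ ?_ ?_ _ (co₂.tD _ (co₁.tD _ hw))
    · intro u hu
      obtain ⟨u₁, hu₁, rfl⟩ := conj_surj t₂ co₂.tQ₂ u hu
      obtain ⟨w, hw, rfl⟩ := conj_surj t₁ co₁.tQ₁ u₁ hu₁
      rw [hrw]
      refine (co₁.x_ker _ (mul_mem (co₁.tQ₁ _ (co₂.tQ₂ _ hw)) (inv_mem (co₂.tQ₂ _ (co₁.tQ₁ _ hw))))).1 ?_
      rw [co₁.x_mul _ (co₁.tQ₁ _ (co₂.tQ₂ _ hw)) _ (inv_mem (co₂.tQ₂ _ (co₁.tQ₁ _ hw))),
        add_inv' co₁.x_mul (co₂.tQ₂ _ (co₁.tQ₁ _ hw)), co₁.tx _ (co₂.tQ₂ _ hw), t₂x w hw, t₂x _ (co₁.tQ₁ _ hw),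
        co₁.tx w hw]
      ring
    · intro u hu
      obtain ⟨u₁, hu₁, rfl⟩ := conj_surj t₂ co₂.tQ₁ u hu
      obtain ⟨w, hw, rfl⟩ := conj_surj t₁ co₁.tQ₂ u₁ hu₁
      rw [hrw]
      refine (co₁.y_ker _ (mul_mem (co₁.tQ₂ _ (co₂.tQ₁ _ hw)) (inv_mem (co₂.tQ₁ _ (co₁.tQ₂ _ hw))))).1 ?_
      rw [co₁.y_mul _ (co₁.tQ₂ _ (co₂.tQ₁ _ hw)) _ (inv_mem (co₂.tQ₁ _ (co₁.tQ₂ _ hw))),
        add_inv' co₁.y_mul (co₂.tQ₁ _ (co₁.tQ₂ _ hw)), co₁.ty b (co₂.tQ₁ _ hw), t₂y w hw, t₂y _ (co₁.tQ₂ _ hw),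
        co₁.ty b hw]
      ring
    · intro d hd
      obtain ⟨d₁, hd₁, rfl⟩ := conj_surj t₂ co₂.tD d hd
      obtain ⟨w, hw, rfl⟩ := conj_surj t₁ co₁.tD d₁ hd₁
      rw [hrw]
      obtain ⟨a, ha⟩ := th₂ w hw
      have ha' : t₂ * w * t₂⁻¹ = s a * w := mul_inv_eq_iff_eq_mul.1 ha
      have hc' : t₁ * w * t₁⁻¹ = s ((ω₁ - 1) * z w) * w := mul_inv_eq_iff_eq_mul.1 (st.th w hw)
      set c := (ω₁ - 1) * z w
      have e2 : t₁ * (t₂ * w * t₂⁻¹) * t₁⁻¹ = s (ω₁ * a) * s c * w := by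
        rw [ha', mul_assoc (s (ω₁ * a)), ← hc', ← st.ts]; group
      have e3 : t₂ * (t₁ * w * t₁⁻¹) * t₂⁻¹ = s (ω * c) * s a * w := by
        rw [hc', mul_assoc (s (ω * c)), ← ha', ← t₂s]; group
      have e4 : t₁ * (t₂ * w * t₂⁻¹) * t₁⁻¹ * (t₂ * (t₁ * w * t₁⁻¹) * t₂⁻¹)⁻¹ = s (ω₁ * a + c + (ω * c + a)) := by
        rw [e2, e3, st.s_add, st.s_add, st.s_add (ω * c) a]
        have h5 : (s (ω * c) * s a)⁻¹ = s (ω * c) * s a := b.inv₁ (b.D₁ (mul_mem (st.sD _) (st.sD _)))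
        rw [mul_inv_rev, h5]; group
      obtain ⟨u, hu, v, hv, -, e5⟩ := hscm (ω₁ * a + c + (ω * c + a))
      exact ⟨u, hu, v, hv, by rw [e4, e5]⟩
    · intro u hu v hv
      rw [cms u hu v hv]
      have h0 := co₁.ω0
      have e5 : s (x u * y v) = t₂ * (t₁ * s (ω₁⁻¹ * (ω⁻¹ * (x u * y v))) * t₁⁻¹) * t₂⁻¹ := by
        rw [st.ts, t₂s]
        congr 1
        field_simp
      rw [e5, hrw, ← e5, t₂s, st.ts]
      congr 1
      field_simp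
  have hC₂ : C₂ = ⊥ := by
    rw [eq_bot_iff]
    intro c hc
    have hcD := co₂.CD hc
    have h1 := key c hcD
    rw [co₂.tC c hc] at h1
    have h2 : z₂ (t₁ * c * t₁⁻¹) = ω₂ * z₂ (t₁ * c * t₁⁻¹) := by
      rw [← co₂.tz _ (co₁.tD c hcD), ← h1]
    have h3 : z₂ (t₁ * c * t₁⁻¹) = 0 := by
      have h4 : (ω₂ - 1) * z₂ (t₁ * c * t₁⁻¹) = 0 := by linear_combination -h2
      exact (mul_eq_zero.1 h4).resolve_left (sub_ne_zero.2 co₂.ω1)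
    have h5 := congrArg z₂ (st.th c hcD)
    rw [co₂.z_mul _ (co₁.tD c hcD) _ (inv_mem hcD), add_inv' co₂.z_mul hcD, h3, (co₂.z_ker c hcD).2 hc, st.μs] at h5
    have h6 := μinj _ (by rw [← h5]; ring)
    have h7 : z c = 0 := (mul_eq_zero.1 h6).resolve_left (sub_ne_zero.2 co₁.ω1)
    have h8 : c ∈ C₁ ⊓ C₂ := ⟨(co₁.z_ker c hcD).1 h7, hc⟩
    rwa [hC] at h8
  have hDs : ∀ d ∈ D, ∃ a, d = s a := by
    intro d hd
    obtain ⟨a, ha⟩ := μsurj (z₂ d)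
    have h1 : d * (s a)⁻¹ ∈ C₂ := (co₂.z_ker _ (mul_mem hd (inv_mem (st.sD _)))).1 (by
      rw [co₂.z_mul _ hd _ (inv_mem (st.sD _)), add_inv' co₂.z_mul (st.sD _), st.μs, ha, add_neg_cancel])
    rw [hC₂, mem_bot] at h1
    exact ⟨a, mul_inv_eq_one.1 h1⟩
  have zinj : ∀ d ∈ D, z d = 0 → d = 1 := by
    intro d hd h0
    obtain ⟨a, rfl⟩ := hDs d hd
    rw [st.sz] at h0
    rw [h0, hs0]
  have hC₁ : C₁ = ⊥ := by
    rw [eq_bot_iff]
    intro c hc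
    exact zinj c (co₁.CD hc) ((co₁.z_ker c (co₁.CD hc)).2 hc)
  exact ⟨hC₁, hC₂, ω,
    { x_mul := co₁.x_mul
      x_surj := co₁.x_surj
      x_ker := co₁.x_ker
      y_mul := co₁.y_mul
      y_surj := co₁.y_surj
      y_ker := co₁.y_ker
      z_mul := co₁.z_mul
      z_surj := co₁.z_surj
      z_inj := zinj
      com := co₁.com
      t₁x := co₁.tx
      t₁y := fun v hv => co₁.ty b hv
      t₁z := co₁.tz
      t₂x := t₂x
      t₂y := t₂y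
      t₂z := fun d hd => by
        obtain ⟨a, rfl⟩ := hDs d hd
        rw [t₂s, st.sz, st.sz]
      gen₁ := co₁.gen
      gen₂ := fun a ha => by
        obtain ⟨n, hn⟩ := co₂.gen (ρ a) (by simpa using ha)
        refine ⟨n, ρ.injective ?_⟩
        rw [map_pow, hρω, hn] }⟩

end Star

/-- **Step (5')** of #9675, K-free. -/
theorem five [Finite G] [Finite F] (b : Base Q₁ Q₂ D) (co₁ : Co Q₁ Q₂ D C₁ x y z t₁ ω₁)
    (co₂ : Co Q₂ Q₁ D C₂ y₂ x₂ z₂ t₂ ω₂) (hC : C₁ ⊓ C₂ = ⊥)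
    (hR : ∀ r : G, (∀ u ∈ Q₁, r * u * r⁻¹ * u⁻¹ ∈ D) → (∀ v ∈ Q₂, r * v * r⁻¹ * v⁻¹ ∈ D) →
      (∀ d ∈ D, ∃ u ∈ Q₁, ∃ v ∈ Q₂, r * d * r⁻¹ * d⁻¹ = cm u v) →
      (∀ u ∈ Q₁, ∀ v ∈ Q₂, r * cm u v * r⁻¹ = cm u v) → ∀ d ∈ D, r * d * r⁻¹ = d) :
    (C₁ = ⊥ ∧ C₂ = ⊥ ∧ ∃ ω : F, LThree Q₁ Q₂ D x y z t₁ t₂ ω₁ ω) ∨
      ∃ (z' : G → F) (ω : F), SpFour Q₁ Q₂ D C₁ C₂ x y z z' t₁ t₂ ω₁ ω := by
  obtain ⟨s, B, μ, κ, g, h, st⟩ := exists_star b co₁ co₂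
  rcases kernel_trick μ κ g h st.ginj st.hinj st.eqn with h1 | h1
  · exact Or.inr (st.spFour b co₁ co₂ hC h1)
  · exact Or.inl (st.lThree b co₁ co₂ hC hR h1)

end Cfsg.Agent.Omega.FFOne

end

section


/-!
# SQT, SQ1.7, Node (A) (v): type `L₃(4)` has sectional 2-rank at most 4

`Dat B P Q D` (subgroups of a finite group `S`): `P`, `Q` elementary abelian of order 16, `D = P ⊓ Q` of order 4,
`[P, Q] ≤ D`, `ab ≠ ba` for `a ∈ P ∖ D`, `b ∈ Q ∖ D`, `B = P ⊔ Q`, every element of `S` normalises or swaps `P`, `Q`,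
some element swaps them, the elements of `S ∖ B` normalising `P` act non-trivially on `P / D` and on `Q / D`, and
`|S : B|` divides 4. Then `SectionalPRankLE 2 4 S`.
-/

set_option autoImplicit false

namespace Cfsg.Agent.Omega.SQ1.RankFour

open Subgroup Cfsg Cfsg.Agent.TwoFusion.SectionalRank

/-! ### counting -/

section Count

variable {G : Type*} [Group G]

theorem card_mul_relIndex {H K : Subgroup G} (h : H ≤ K) :
    Nat.card H * H.relIndex K = Nat.card K := by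
  rw [Subgroup.relIndex, ← Nat.card_congr (Subgroup.subgroupOfEquivOfLe h).toEquiv]
  exact Subgroup.card_mul_index _

/-- `|K H| |K ∩ H| = |K| |H|` -/
theorem card_sup_mul [Finite G] {K H : Subgroup G} (h : ∀ x ∈ H, ∀ k ∈ K, x * k * x⁻¹ ∈ K) :
    Nat.card (K ⊔ H : Subgroup G) * Nat.card (K ⊓ H : Subgroup G) = Nat.card K * Nat.card H := by
  have h' : H ≤ normalizer (K : Set G) := by
    intro x hx
    rw [mem_normalizer_iff]
    intro k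
    refine ⟨fun hk => h x hx k hk, fun hk => ?_⟩
    have := h x⁻¹ (H.inv_mem hx) _ hk
    have e : x⁻¹ * (x * k * x⁻¹) * x⁻¹⁻¹ = k := by group
    rwa [e] at this
  have hKn : (K.subgroupOf (K ⊔ H)).Normal :=
    normal_subgroupOf_of_le_normalizer (sup_le le_normalizer h')
  have h1 := relIndex_sup_left (H.subgroupOf (K ⊔ H)) (K.subgroupOf (K ⊔ H))
  rw [← Subgroup.subgroupOf_sup le_sup_left le_sup_right, Subgroup.subgroupOf_self,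
    Subgroup.relIndex_subgroupOf le_sup_right, relIndex_top_right] at h1
  have h2 : Nat.card K * K.relIndex H = Nat.card (K ⊔ H : Subgroup G) := by
    rw [← h1]
    exact card_mul_relIndex le_sup_left
  have h3 : Nat.card (K ⊓ H : Subgroup G) * K.relIndex H = Nat.card H := by
    rw [← inf_relIndex_right]
    exact card_mul_relIndex inf_le_right
  rw [← h2, ← h3]
  ring

theorem card_le_of_le [Finite G] {H K : Subgroup G} (h : H ≤ K) : Nat.card H ≤ Nat.card K :=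
  Nat.card_le_card_of_injective _ (inclusion_injective h)

theorem eq_of_card [Finite G] {H K : Subgroup G} (h : H ≤ K) (hc : Nat.card K ≤ Nat.card H) : H = K :=
  Subgroup.eq_of_le_of_card_ge h hc

/-- a subgroup strictly contained in another one has at most half of its order -/
theorem two_mul_le [Finite G] {H K : Subgroup G} (h : H ≤ K) (hne : ∃ k ∈ K, k ∉ H) :
    2 * Nat.card H ≤ Nat.card K := by
  have h1 := card_mul_relIndex h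
  have h2 : H.relIndex K ≠ 1 := by
    intro h3
    obtain ⟨k, hk, hk2⟩ := hne
    exact hk2 (relIndex_eq_one.1 h3 hk)
  have h4 : H.relIndex K ≠ 0 := by
    intro h5
    rw [h5, mul_zero] at h1
    exact absurd h1.symm Nat.card_pos.ne'
  have h6 : 2 ≤ H.relIndex K := by omega
  calc 2 * Nat.card H = Nat.card H * 2 := mul_comm _ _
    _ ≤ Nat.card H * H.relIndex K := Nat.mul_le_mul_left _ h6
    _ = _ := h1

/-- the image of a homomorphism-like map counted through its kernel -/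
theorem card_le_of_hom [Finite G] {M : Type*} [Group M] [Finite M] (f : G →* M) (N : Subgroup M)
    (h : ∀ g, f g ∈ N) : Nat.card G ≤ Nat.card f.ker * Nat.card N := by
  have h1 : Nat.card f.ker * f.ker.index = Nat.card G := Subgroup.card_mul_index _
  rw [← h1, Subgroup.index_ker]
  refine Nat.mul_le_mul_left _ (card_le_of_le ?_)
  rintro _ ⟨g, rfl⟩
  exact h g

end Count

variable {S : Type*} [Group S] {B P Q D : Subgroup S}

/-- The type `L₃(4)`. -/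
structure Dat (B P Q D : Subgroup S) : Prop where
  inf : P ⊓ Q = D
  cD : Nat.card D = 4
  cP : Nat.card P = 16
  cQ : Nat.card Q = 16
  eP : ∀ x ∈ P, x * x = 1
  eQ : ∀ x ∈ Q, x * x = 1
  cc : ∀ a ∈ P, ∀ b ∈ Q, a * b * a⁻¹ * b⁻¹ ∈ D
  nc : ∀ a ∈ P, a ∉ D → ∀ b ∈ Q, b ∉ D → a * b ≠ b * a
  sup : P ⊔ Q = B
  perm : ∀ u : S, ((∀ a ∈ P, u * a * u⁻¹ ∈ P) ∧ ∀ b ∈ Q, u * b * u⁻¹ ∈ Q) ∨
    ((∀ a ∈ P, u * a * u⁻¹ ∈ Q) ∧ ∀ b ∈ Q, u * b * u⁻¹ ∈ P)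
  faith : ∀ u : S, u ∉ B → (∀ a ∈ P, u * a * u⁻¹ ∈ P) →
    (∃ a ∈ P, u * a * u⁻¹ * a⁻¹ ∉ D) ∧ ∃ b ∈ Q, u * b * u⁻¹ * b⁻¹ ∉ D
  swap : ∃ s : S, ∀ a ∈ P, s * a * s⁻¹ ∈ Q
  idx : B.index ∣ 4

namespace Dat

variable [Finite S]

section Basic

omit [Finite S]

theorem D_le_P (h : Dat B P Q D) : D ≤ P := by rw [← h.inf]; exact inf_le_left
theorem D_le_Q (h : Dat B P Q D) : D ≤ Q := by rw [← h.inf]; exact inf_le_right
theorem P_le (h : Dat B P Q D) : P ≤ B := by rw [← h.sup]; exact le_sup_left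
theorem Q_le (h : Dat B P Q D) : Q ≤ B := by rw [← h.sup]; exact le_sup_right
theorem mem_D (h : Dat B P Q D) {x : S} (h1 : x ∈ P) (h2 : x ∈ Q) : x ∈ D := by
  rw [← h.inf]; exact ⟨h1, h2⟩

theorem inv_P (h : Dat B P Q D) {x : S} (hx : x ∈ P) : x⁻¹ = x := inv_eq_of_mul_eq_one_right (h.eP x hx)
theorem inv_Q (h : Dat B P Q D) {x : S} (hx : x ∈ Q) : x⁻¹ = x := inv_eq_of_mul_eq_one_right (h.eQ x hx)

theorem comm_P (h : Dat B P Q D) {x y : S} (hx : x ∈ P) (hy : y ∈ P) : x * y = y * x := by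
  have h1 := h.inv_P (P.mul_mem hx hy)
  rw [mul_inv_rev, h.inv_P hx, h.inv_P hy] at h1
  exact h1.symm

theorem comm_Q (h : Dat B P Q D) {x y : S} (hx : x ∈ Q) (hy : y ∈ Q) : x * y = y * x := by
  have h1 := h.inv_Q (Q.mul_mem hx hy)
  rw [mul_inv_rev, h.inv_Q hx, h.inv_Q hy] at h1
  exact h1.symm

/-- `D` is central in `B` -/
theorem comm_D (h : Dat B P Q D) {b d : S} (hb : b ∈ B) (hd : d ∈ D) : b * d = d * b := by
  have h1 : B ≤ centralizer ({d} : Set S) := by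
    rw [← h.sup, sup_le_iff]
    constructor
    · intro x hx
      rw [mem_centralizer_singleton_iff]
      exact h.comm_P hx (h.D_le_P hd)
    · intro x hx
      rw [mem_centralizer_singleton_iff]
      exact h.comm_Q hx (h.D_le_Q hd)
  exact mem_centralizer_singleton_iff.1 (h1 hb)

/-- `u P u⁻¹ ≤ P` for `u ∈ Q` etc. -/
theorem conj_P (h : Dat B P Q D) {a b : S} (ha : a ∈ P) (hb : b ∈ Q) : b * a * b⁻¹ ∈ P := by
  have h1 := h.D_le_P (D.inv_mem (h.cc a ha b hb))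
  have h2 := P.mul_mem h1 ha
  have e : (a * b * a⁻¹ * b⁻¹)⁻¹ * a = b * a * b⁻¹ := by group
  rwa [e] at h2

theorem conj_Q (h : Dat B P Q D) {a b : S} (ha : a ∈ P) (hb : b ∈ Q) : a * b * a⁻¹ ∈ Q := by
  have h1 := h.D_le_Q (h.cc a ha b hb)
  have h2 := Q.mul_mem h1 hb
  rwa [inv_mul_cancel_right] at h2

theorem mem_B (h : Dat B P Q D) {x : S} (hx : x ∈ B) : ∃ a ∈ P, ∃ b ∈ Q, x = a * b := by
  rw [← h.sup, Subgroup.sup_eq_closure] at hx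
  induction hx using Subgroup.closure_induction with
  | mem x hx =>
    rcases hx with hx | hx
    · exact ⟨x, hx, 1, Q.one_mem, (mul_one x).symm⟩
    · exact ⟨1, P.one_mem, x, hx, (one_mul x).symm⟩
  | one => exact ⟨1, P.one_mem, 1, Q.one_mem, (mul_one 1).symm⟩
  | mul x y _ _ hx hy =>
    obtain ⟨a, ha, b, hb, rfl⟩ := hx
    obtain ⟨a', ha', b', hb', rfl⟩ := hy
    refine ⟨a * (b * a' * b⁻¹), P.mul_mem ha (h.conj_P ha' hb), b * b', Q.mul_mem hb hb', by group⟩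
  | inv x _ hx =>
    obtain ⟨a, ha, b, hb, rfl⟩ := hx
    refine ⟨b⁻¹ * a⁻¹ * b⁻¹⁻¹, h.conj_P (P.inv_mem ha) (Q.inv_mem hb), b⁻¹, Q.inv_mem hb, by group⟩

/-- `[B, B] ≤ D` -/
theorem comm_B (h : Dat B P Q D) (hn : D.Normal) {x y : S} (hx : x ∈ B) (hy : y ∈ B) : x * y * x⁻¹ * y⁻¹ ∈ D := by
  have key : ∀ x ∈ B, ∀ y ∈ B, (QuotientGroup.mk' D x) * (QuotientGroup.mk' D y) =
      (QuotientGroup.mk' D y) * (QuotientGroup.mk' D x) := by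
    have hPQ : ∀ a ∈ P, ∀ b ∈ Q, (QuotientGroup.mk' D a) * (QuotientGroup.mk' D b) =
        (QuotientGroup.mk' D b) * (QuotientGroup.mk' D a) := by
      intro a ha b hb
      have h1 : QuotientGroup.mk' D (a * b * a⁻¹ * b⁻¹) = 1 := by
        rw [← MonoidHom.mem_ker, QuotientGroup.ker_mk']; exact h.cc a ha b hb
      rw [map_mul, map_mul, map_mul, map_inv, map_inv] at h1
      rw [mul_inv_eq_one, mul_inv_eq_iff_eq_mul] at h1
      exact h1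
    intro x hx y hy
    obtain ⟨a, ha, b, hb, rfl⟩ := h.mem_B hx
    obtain ⟨a', ha', b', hb', rfl⟩ := h.mem_B hy
    have e1 : QuotientGroup.mk' D a * QuotientGroup.mk' D a' = QuotientGroup.mk' D a' * QuotientGroup.mk' D a := by
      rw [← map_mul, ← map_mul, h.comm_P ha ha']
    have e2 : QuotientGroup.mk' D b * QuotientGroup.mk' D b' = QuotientGroup.mk' D b' * QuotientGroup.mk' D b := by
      rw [← map_mul, ← map_mul, h.comm_Q hb hb']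
    rw [map_mul, map_mul]
    have c1 : Commute (QuotientGroup.mk' D a) (QuotientGroup.mk' D a') := e1
    have c2 : Commute (QuotientGroup.mk' D b) (QuotientGroup.mk' D b') := e2
    have c3 : Commute (QuotientGroup.mk' D a) (QuotientGroup.mk' D b') := hPQ a ha b' hb'
    have c4 : Commute (QuotientGroup.mk' D b) (QuotientGroup.mk' D a') := (hPQ a' ha' b hb).symm
    exact (c1.mul_right c3).mul_left (c4.mul_right c2)
  have h1 := key x hx y hy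
  rw [← QuotientGroup.ker_mk' D, MonoidHom.mem_ker, map_mul, map_mul, map_mul, map_inv, map_inv, h1]
  group

theorem normal_D (h : Dat B P Q D) : D.Normal := by
  constructor
  intro d hd u
  rcases h.perm u with h1 | h1
  · exact h.mem_D (h1.1 d (h.D_le_P hd)) (h1.2 d (h.D_le_Q hd))
  · exact h.mem_D (h1.2 d (h.D_le_Q hd)) (h1.1 d (h.D_le_P hd))

theorem normal_B (h : Dat B P Q D) : B.Normal := by
  constructor
  intro x hx u
  obtain ⟨a, ha, b, hb, rfl⟩ := h.mem_B hx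
  have e : u * (a * b) * u⁻¹ = (u * a * u⁻¹) * (u * b * u⁻¹) := by group
  rw [e]
  rcases h.perm u with h1 | h1
  · exact B.mul_mem (h.P_le (h1.1 a ha)) (h.Q_le (h1.2 b hb))
  · exact B.mul_mem (h.Q_le (h1.1 a ha)) (h.P_le (h1.2 b hb))

/-- a `2`-element of `B` of order at most `2` lies in `P` or in `Q` -/
theorem mem_or (h : Dat B P Q D) {x : S} (hx : x ∈ B) (hxx : x * x = 1) : x ∈ P ∨ x ∈ Q := by
  obtain ⟨a, ha, b, hb, rfl⟩ := h.mem_B hx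
  by_cases h1 : a ∈ D
  · exact Or.inr (Q.mul_mem (h.D_le_Q h1) hb)
  by_cases h2 : b ∈ D
  · exact Or.inl (P.mul_mem ha (h.D_le_P h2))
  exfalso
  apply h.nc a ha h1 b hb h2
  have h3 : (a * b)⁻¹ = a * b := inv_eq_of_mul_eq_one_right hxx
  rw [mul_inv_rev, h.inv_P ha, h.inv_Q hb] at h3
  exact h3.symm

end Basic

/-- the other numbering -/
theorem symm (h : Dat B P Q D) : Dat B Q P D where
  inf := by rw [inf_comm]; exact h.inf
  cD := h.cD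
  cP := h.cQ
  cQ := h.cP
  eP := h.eQ
  eQ := h.eP
  cc := by
    intro a ha b hb
    have h1 := D.inv_mem (h.cc b hb a ha)
    have e : (b * a * b⁻¹ * a⁻¹)⁻¹ = a * b * a⁻¹ * b⁻¹ := by group
    rwa [e] at h1
  nc := fun a ha ha2 b hb hb2 h1 => h.nc b hb hb2 a ha ha2 h1.symm
  sup := by rw [sup_comm]; exact h.sup
  perm := by
    intro u
    rcases h.perm u with h1 | h1
    · exact Or.inl ⟨h1.2, h1.1⟩
    · exact Or.inr ⟨h1.2, h1.1⟩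
  faith := by
    intro u hu hQ
    rcases h.perm u with h1 | h1
    · obtain ⟨h2, h3⟩ := h.faith u hu h1.1
      exact ⟨h3, h2⟩
    · exfalso
      have h2 : ∀ b ∈ Q, b ∈ D := by
        intro b hb
        have h3 := h.mem_D (h1.2 b hb) (hQ b hb)
        have h4 := h.normal_D.conj_mem _ h3 u⁻¹
        have e : u⁻¹ * (u * b * u⁻¹) * u⁻¹⁻¹ = b := by group
        rwa [e] at h4
      have h5 := card_le_of_le (show Q ≤ D from h2)
      rw [h.cQ, h.cD] at h5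
      omega
  swap := by
    obtain ⟨s, hs⟩ := h.swap
    rcases h.perm s with h1 | h1
    · exfalso
      have h2 : ∀ a ∈ P, a ∈ D := by
        intro a ha
        have h3 := h.mem_D (h1.1 a ha) (hs a ha)
        have h4 := h.normal_D.conj_mem _ h3 s⁻¹
        have e : s⁻¹ * (s * a * s⁻¹) * s⁻¹⁻¹ = a := by group
        rwa [e] at h4
      have h5 := card_le_of_le (show P ≤ D from h2)
      rw [h.cP, h.cD] at h5
      omega
    · exact ⟨s, h1.2⟩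
  idx := h.idx

theorem card_B (h : Dat B P Q D) : Nat.card B = 64 := by
  have h1 := card_sup_mul (K := P) (H := Q) (fun x hx k hk => h.conj_P hk hx)
  rw [h.sup, h.inf, h.cD, h.cP, h.cQ] at h1
  omega

/-- `[a, Q] = D` for `a ∈ P ∖ D` -/
theorem onto_D (h : Dat B P Q D) {a : S} (ha : a ∈ P) (ha2 : a ∉ D) {d : S} (hd : d ∈ D) :
    ∃ b ∈ Q, a * b * a⁻¹ * b⁻¹ = d := by
  let f : Q →* D :=
    { toFun := fun b => ⟨a * b * a⁻¹ * (b : S)⁻¹, h.cc a ha b b.2⟩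
      map_one' := by
        apply Subtype.ext
        show a * 1 * a⁻¹ * 1⁻¹ = 1
        group
      map_mul' := by
        intro b c
        apply Subtype.ext
        show a * ((b : S) * c) * a⁻¹ * ((b : S) * c)⁻¹ = a * b * a⁻¹ * (b : S)⁻¹ * (a * c * a⁻¹ * (c : S)⁻¹)
        have h1 := h.comm_D (h.Q_le (Q.inv_mem b.2)) (h.cc a ha c c.2)
        calc a * ((b : S) * c) * a⁻¹ * ((b : S) * c)⁻¹
            = a * b * a⁻¹ * ((a * c * a⁻¹ * (c : S)⁻¹) * (b : S)⁻¹) := by group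
          _ = a * b * a⁻¹ * ((b : S)⁻¹ * (a * c * a⁻¹ * (c : S)⁻¹)) := by rw [h1]
          _ = _ := by group }
  have hk : Nat.card f.ker ≤ 4 := by
    rw [← h.cD]
    have h2 : ∀ b : f.ker, ((b : Q) : S) ∈ D := by
      intro b
      by_contra h3
      have h4 : f b = 1 := b.2
      have h5 : a * ((b : Q) : S) * a⁻¹ * ((b : Q) : S)⁻¹ = 1 := congrArg Subtype.val h4
      rw [mul_inv_eq_one, mul_inv_eq_iff_eq_mul] at h5
      exact h.nc a ha ha2 _ (b : Q).2 h3 h5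
    refine Nat.card_le_card_of_injective (fun b : f.ker => (⟨_, h2 b⟩ : D)) ?_
    intro b c hbc
    have h6 : ((b : Q) : S) = ((c : Q) : S) := Subtype.mk.inj hbc
    exact Subtype.ext (Subtype.ext h6)
  have h7 : Nat.card f.ker * f.ker.index = Nat.card Q := Subgroup.card_mul_index _
  rw [Subgroup.index_ker, h.cQ] at h7
  have h8 : 4 ≤ Nat.card f.range := by
    by_contra h9
    have : Nat.card f.ker * Nat.card f.range ≤ 4 * 3 := Nat.mul_le_mul hk (by omega)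
    omega
  have h10 : f.range = ⊤ := Subgroup.eq_top_of_le_card _ (by rw [h.cD]; exact h8)
  have h11 : (⟨d, hd⟩ : D) ∈ f.range := by rw [h10]; exact mem_top _
  obtain ⟨b, hb⟩ := h11
  exact ⟨b, b.2, congrArg Subtype.val hb⟩

/-! ### normal closure of `P` under `B` -/

omit [Finite S] in
theorem conj_B_P (h : Dat B P Q D) {x a : S} (hx : x ∈ B) (ha : a ∈ P) : x * a * x⁻¹ ∈ P := by
  obtain ⟨p, hp, q, hq, rfl⟩ := h.mem_B hx
  have e : p * q * a * (p * q)⁻¹ = p * (q * a * q⁻¹) * p⁻¹ := by group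
  rw [e]
  exact P.mul_mem (P.mul_mem hp (h.conj_P ha hq)) (P.inv_mem hp)

omit [Finite S] in
theorem mem_sup_of_conj {K H : Subgroup S} (hn : ∀ x ∈ H, ∀ k ∈ K, x * k * x⁻¹ ∈ K) {z : S} (hz : z ∈ K ⊔ H) :
    ∃ x ∈ H, ∃ k ∈ K, z = x * k := by
  have hn' : ∀ x ∈ H, ∀ k ∈ K, x⁻¹ * k * x ∈ K := by
    intro x hx k hk
    have := hn x⁻¹ (H.inv_mem hx) k hk
    rwa [inv_inv] at this
  rw [Subgroup.sup_eq_closure] at hz
  induction hz using Subgroup.closure_induction with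
  | mem x hx =>
    rcases hx with hx | hx
    · exact ⟨1, H.one_mem, x, hx, (one_mul x).symm⟩
    · exact ⟨x, hx, 1, K.one_mem, (mul_one x).symm⟩
  | one => exact ⟨1, H.one_mem, 1, K.one_mem, (mul_one 1).symm⟩
  | mul x y _ _ hx hy =>
    obtain ⟨a, ha, b, hb, rfl⟩ := hx
    obtain ⟨a', ha', b', hb', rfl⟩ := hy
    exact ⟨a * a', H.mul_mem ha ha', a'⁻¹ * b * a' * b', K.mul_mem (hn' a' ha' b hb) hb', by group⟩
  | inv x _ hx =>
    obtain ⟨a, ha, b, hb, rfl⟩ := hx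
    exact ⟨a⁻¹, H.inv_mem ha, a * b⁻¹ * a⁻¹, hn a ha _ (K.inv_mem hb), by group⟩

/-! ### (A) -/

theorem aux_A (h : Dat B P Q D) {U Y : Subgroup S} (hU : U ≤ B) (hc : 32 ≤ Nat.card U) (hs : P ⊔ U = B)
    (hY : ∀ x ∈ U, ∀ y ∈ U, x * y * x⁻¹ * y⁻¹ ∈ Y) : D ≤ Y := by
  have hn : ∀ x ∈ U, ∀ k ∈ P, x * k * x⁻¹ ∈ P := fun x hx k hk => h.conj_B_P (hU hx) hk
  have h1 := card_sup_mul hn
  rw [hs, h.card_B, h.cP] at h1
  obtain ⟨a, haU, haD⟩ : ∃ a ∈ P ⊓ U, a ∉ D := by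
    by_contra h2
    push Not at h2
    have h3 := card_le_of_le (show P ⊓ U ≤ D from h2)
    rw [h.cD] at h3
    omega
  intro d hd
  obtain ⟨b, hb, rfl⟩ := h.onto_D haU.1 haD hd
  have hb' : b ∈ P ⊔ U := by rw [hs]; exact h.Q_le hb
  obtain ⟨u, hu, p, hp, rfl⟩ := mem_sup_of_conj hn hb'
  have h4 := h.comm_P hp (P.inv_mem haU.1)
  have e : a * (u * p) * a⁻¹ * (u * p)⁻¹ = a * u * a⁻¹ * u⁻¹ := by
    calc a * (u * p) * a⁻¹ * (u * p)⁻¹ = a * u * (p * a⁻¹) * p⁻¹ * u⁻¹ := by group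
      _ = a * u * (a⁻¹ * p) * p⁻¹ * u⁻¹ := by rw [h4]
      _ = _ := by group
  rw [e]
  exact hY a haU.2 u hu

/-- (A) -/
theorem D_le_of_comm (h : Dat B P Q D) {U Y : Subgroup S} (hU : U ≤ B) (hc : 32 ≤ Nat.card U)
    (hY : ∀ x ∈ U, ∀ y ∈ U, x * y * x⁻¹ * y⁻¹ ∈ Y) : D ≤ Y := by
  by_cases hs : P ⊔ U = B
  · exact h.aux_A hU hc hs hY
  have h1 : P ⊔ U ≤ B := sup_le h.P_le hU
  have h2 : 2 * Nat.card (P ⊔ U : Subgroup S) ≤ Nat.card B := by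
    refine two_mul_le h1 ?_
    by_contra h3
    push Not at h3
    exact hs (le_antisymm h1 h3)
  rw [h.card_B] at h2
  have h3 : U = P ⊔ U := eq_of_card le_sup_right (by omega)
  have h4 : P ≤ U := by rw [h3]; exact le_sup_left
  refine h.symm.aux_A hU hc ?_ hY
  refine le_antisymm (sup_le h.Q_le hU) ?_
  rw [← h.sup]
  exact sup_le (h4.trans le_sup_right) le_sup_left

/-! ### centralisers modulo `D` -/

/-- `{b ∈ B : [x, b] ∈ D}` -/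
def Cen (B D : Subgroup S) [D.Normal] (x : S) : Subgroup S :=
  B ⊓ (centralizer ({QuotientGroup.mk' D x} : Set (S ⧸ D))).comap (QuotientGroup.mk' D)

omit [Finite S] in
theorem mem_Cen [D.Normal] {x b : S} : b ∈ Cen B D x ↔ b ∈ B ∧
    QuotientGroup.mk' D b * QuotientGroup.mk' D x = QuotientGroup.mk' D x * QuotientGroup.mk' D b := by
  unfold Cen
  rw [mem_inf, mem_comap, mem_centralizer_singleton_iff]

omit [Finite S] in
theorem mk_comm [D.Normal] {x b : S} :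
    QuotientGroup.mk' D b * QuotientGroup.mk' D x = QuotientGroup.mk' D x * QuotientGroup.mk' D b ↔
      x * b * x⁻¹ * b⁻¹ ∈ D := by
  have key : x * b * x⁻¹ * b⁻¹ ∈ D ↔ QuotientGroup.mk' D (x * b * x⁻¹ * b⁻¹) = 1 := by
    rw [← MonoidHom.mem_ker, QuotientGroup.ker_mk']
  rw [key, map_mul, map_mul, map_mul, map_inv, map_inv, mul_inv_eq_one, mul_inv_eq_iff_eq_mul]
  exact eq_comm

omit [Finite S] in
theorem mem_Cen' [D.Normal] {x b : S} : b ∈ Cen B D x ↔ b ∈ B ∧ x * b * x⁻¹ * b⁻¹ ∈ D := by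
  rw [mem_Cen, mk_comm]

omit [Finite S] in
theorem Cen_le [D.Normal] {x : S} : Cen B D x ≤ B := inf_le_left

omit [Finite S] in
theorem D_le_Cen (h : Dat B P Q D) [hn : D.Normal] (x : S) : D ≤ Cen B D x := by
  intro d hd
  rw [mem_Cen']
  exact ⟨h.P_le (h.D_le_P hd), D.mul_mem (hn.conj_mem d hd x) (D.inv_mem hd)⟩

omit [Finite S] in
/-- `P ∩ C_x = D` for a swap `x` -/
theorem inf_Cen_swap (h : Dat B P Q D) [D.Normal] {x : S} (hx : ∀ a ∈ P, x * a * x⁻¹ ∈ Q) :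
    P ⊓ Cen B D x ≤ D := by
  intro a ha
  have h1 := (mem_Cen'.1 ha.2).2
  have h2 := Q.mul_mem (Q.inv_mem (hx a ha.1)) (h.D_le_Q h1)
  have e : (x * a * x⁻¹)⁻¹ * (x * a * x⁻¹ * a⁻¹) = a⁻¹ := by group
  rw [e] at h2
  exact h.mem_D ha.1 ((Q.inv_mem_iff).1 h2)

omit [Finite S] in
/-- the components of an element of `C_x`, `x` not a swap -/
theorem sup_Cen (h : Dat B P Q D) [D.Normal] {x : S} (hx : ∀ a ∈ P, x * a * x⁻¹ ∈ P) (hx' : ∀ b ∈ Q, x * b * x⁻¹ ∈ Q) :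
    P ⊔ Cen B D x ≤ P ⊔ (Q ⊓ Cen B D x) := by
  refine sup_le le_sup_left ?_
  intro c hc
  obtain ⟨hcB, hcD⟩ := mem_Cen'.1 hc
  obtain ⟨p, hp, q, hq, rfl⟩ := h.mem_B hcB
  refine mul_mem (mem_sup_left hp) (mem_sup_right ⟨hq, mem_Cen'.2 ?_⟩)
  refine ⟨h.Q_le hq, h.mem_D ?_ (Q.mul_mem (hx' q hq) (Q.inv_mem hq))⟩
  have h2 := P.mul_mem (P.mul_mem (P.inv_mem (hx p hp)) (h.D_le_P hcD)) hp
  have e : (x * p * x⁻¹)⁻¹ * (x * (p * q) * x⁻¹ * (p * q)⁻¹) * p = x * q * x⁻¹ * q⁻¹ := by group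
  rwa [e] at h2

theorem card_sup_Cen (h : Dat B P Q D) [D.Normal] {x : S} (hxB : x ∉ B) (hx : ∀ a ∈ P, x * a * x⁻¹ ∈ P)
    (hx' : ∀ b ∈ Q, x * b * x⁻¹ ∈ Q) : Nat.card (P ⊔ (Q ⊓ Cen B D x) : Subgroup S) ≤ 32 := by
  have h1 := card_sup_mul (K := P) (H := Q ⊓ Cen B D x) (fun y hy k hk => h.conj_P hk hy.1)
  have h2 : 2 * Nat.card (Q ⊓ Cen B D x : Subgroup S) ≤ Nat.card Q := by
    refine two_mul_le inf_le_left ?_
    obtain ⟨b, hb, hb2⟩ := (h.faith x hxB hx).2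
    exact ⟨b, hb, fun hb3 => hb2 (mem_Cen'.1 hb3.2).2⟩
  have h3 := card_le_of_le (show D ≤ P ⊓ (Q ⊓ Cen B D x) from
    fun d hd => ⟨h.D_le_P hd, h.D_le_Q hd, h.D_le_Cen x hd⟩)
  rw [h.cD] at h3
  rw [h.cQ] at h2
  rw [h.cP] at h1
  by_contra h4
  have h5 : 33 * 4 ≤ Nat.card (P ⊔ (Q ⊓ Cen B D x) : Subgroup S) *
      Nat.card (P ⊓ (Q ⊓ Cen B D x) : Subgroup S) := Nat.mul_le_mul (by omega) h3
  omega

/-- (B) -/
theorem card_Cen_le (h : Dat B P Q D) [D.Normal] {x : S} (hxB : x ∉ B) : Nat.card (Cen B D x) ≤ 16 := by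
  have hn : ∀ y ∈ Cen B D x, ∀ k ∈ P, y * k * y⁻¹ ∈ P := fun y hy k hk => h.conj_B_P (Cen_le hy) hk
  have h1 := card_sup_mul hn
  rw [h.cP] at h1
  rcases h.perm x with hx | hx
  · have h2 := card_le_of_le (h.sup_Cen hx.1 hx.2)
    have h3 := h.card_sup_Cen hxB hx.1 hx.2
    have h4 : 2 * Nat.card (P ⊓ Cen B D x : Subgroup S) ≤ Nat.card P := by
      refine two_mul_le inf_le_left ?_
      obtain ⟨a, ha, ha2⟩ := (h.faith x hxB hx.1).1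
      exact ⟨a, ha, fun ha3 => ha2 (mem_Cen'.1 ha3.2).2⟩
    rw [h.cP] at h4
    have h5 : Nat.card (P ⊔ Cen B D x : Subgroup S) * Nat.card (P ⊓ Cen B D x : Subgroup S) ≤ 32 * 8 :=
      Nat.mul_le_mul (by omega) (by omega)
    omega
  · have h2 := card_le_of_le (h.inf_Cen_swap hx.1)
    rw [h.cD] at h2
    have h3 := card_le_of_le (show P ⊔ Cen B D x ≤ B from sup_le h.P_le Cen_le)
    rw [h.card_B] at h3
    have h5 : Nat.card (P ⊔ Cen B D x : Subgroup S) * Nat.card (P ⊓ Cen B D x : Subgroup S) ≤ 64 * 4 :=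
      Nat.mul_le_mul h3 h2
    omega

/-- (C) -/
theorem card_fix_le (h : Dat B P Q D) [D.Normal] {s t : S} (hs : ∀ a ∈ P, s * a * s⁻¹ ∈ Q) (htB : t ∉ B)
    (ht : ∀ a ∈ P, t * a * t⁻¹ ∈ P) (ht' : ∀ b ∈ Q, t * b * t⁻¹ ∈ Q) :
    Nat.card (Cen B D t ⊓ Cen B D s : Subgroup S) ≤ 8 := by
  have hn : ∀ y ∈ Cen B D t ⊓ Cen B D s, ∀ k ∈ P, y * k * y⁻¹ ∈ P := fun y hy k hk => h.conj_B_P (Cen_le hy.1) hk
  have h1 := card_sup_mul hn
  rw [h.cP] at h1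
  have h2 := card_le_of_le (show P ⊓ (Cen B D t ⊓ Cen B D s) ≤ D from
    fun a ha => h.inf_Cen_swap hs ⟨ha.1, ha.2.2⟩)
  rw [h.cD] at h2
  have h3 := card_le_of_le (show P ⊔ (Cen B D t ⊓ Cen B D s) ≤ P ⊔ (Q ⊓ Cen B D t) from
    le_trans (sup_le_sup_left inf_le_left _) (h.sup_Cen ht ht'))
  have h4 := h.card_sup_Cen htB ht ht'
  have h5 : Nat.card (P ⊔ (Cen B D t ⊓ Cen B D s) : Subgroup S) *
      Nat.card (P ⊓ (Cen B D t ⊓ Cen B D s) : Subgroup S) ≤ 32 * 4 := Nat.mul_le_mul (by omega) h2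
  omega

omit [Finite S] in
theorem mk_comm_B (h : Dat B P Q D) [hn : D.Normal] {x b : S} (hx : x ∈ B) (hb : b ∈ B) :
    QuotientGroup.mk' D b * QuotientGroup.mk' D x = QuotientGroup.mk' D x * QuotientGroup.mk' D b :=
  mk_comm.2 (h.comm_B hn hx hb)

/-- (B') -/
theorem card_le_of_comm (h : Dat B P Q D) [hn : D.Normal] {X Y : Subgroup S} {x : S} (hX : X ≤ B) (hDY : D ≤ Y)
    (hxY : ∀ b ∈ X, x * b * x⁻¹ * b⁻¹ ∈ Y) : 4 * Nat.card X ≤ Nat.card (X ⊓ Cen B D x : Subgroup S) * Nat.card Y := by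
  have hBn := h.normal_B
  let f : X →* S ⧸ D :=
    { toFun := fun b => QuotientGroup.mk' D (x * b * x⁻¹ * (b : S)⁻¹)
      map_one' := by
        have e : x * ((1 : X) : S) * x⁻¹ * ((1 : X) : S)⁻¹ = 1 := by
          rw [OneMemClass.coe_one]; group
        rw [e, map_one]
      map_mul' := by
        intro b c
        have h1 : (x * c * x⁻¹) * (c : S)⁻¹ ∈ B := B.mul_mem (hBn.conj_mem _ (hX c.2) x) (B.inv_mem (hX c.2))
        have h2 := h.mk_comm_B (hX b.2) h1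
        have e : x * ((b * c : X) : S) * x⁻¹ * ((b * c : X) : S)⁻¹ =
            (x * b * x⁻¹ * (b : S)⁻¹) * ((b : S) * (x * c * x⁻¹ * (c : S)⁻¹) * (b : S)⁻¹) := by
          rw [Subgroup.coe_mul]; group
        rw [e, map_mul, map_mul (QuotientGroup.mk' D) ((b : S) * _), map_mul (QuotientGroup.mk' D) (b : S), ← h2,
          map_inv, mul_inv_cancel_right] }
  have h1 := card_le_of_hom f (Y.map (QuotientGroup.mk' D)) (fun b => mem_map_of_mem _ (hxY b b.2))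
  have h2 : Nat.card f.ker ≤ Nat.card (X ⊓ Cen B D x : Subgroup S) := by
    have h3 : ∀ b : f.ker, ((b : X) : S) ∈ X ⊓ Cen B D x := by
      intro b
      refine ⟨(b : X).2, mem_Cen'.2 ?_⟩
      refine ⟨hX (b : X).2, ?_⟩
      have h4 : f b = 1 := b.2
      have h5 : QuotientGroup.mk' D (x * ((b : X) : S) * x⁻¹ * ((b : X) : S)⁻¹) = 1 := h4
      rwa [← MonoidHom.mem_ker, QuotientGroup.ker_mk'] at h5
    refine Nat.card_le_card_of_injective (fun b : f.ker => (⟨_, h3 b⟩ : (X ⊓ Cen B D x : Subgroup S))) ?_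
    intro b c hbc
    have h6 : ((b : X) : S) = ((c : X) : S) := Subtype.mk.inj hbc
    exact Subtype.ext (Subtype.ext h6)
  have h3 : 4 * Nat.card (Y.map (QuotientGroup.mk' D)) = Nat.card Y := by
    have h4 := card_mul_relIndex hDY
    have h5 := Subgroup.relIndex_ker (QuotientGroup.mk' D) (K := Y)
    rw [QuotientGroup.ker_mk'] at h5
    rw [← h5, ← h.cD]
    exact h4
  calc 4 * Nat.card X ≤ 4 * (Nat.card f.ker * Nat.card (Y.map (QuotientGroup.mk' D))) := Nat.mul_le_mul_left _ h1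
    _ = Nat.card f.ker * (4 * Nat.card (Y.map (QuotientGroup.mk' D))) := by ring
    _ = Nat.card f.ker * Nat.card Y := by rw [h3]
    _ ≤ _ := Nat.mul_le_mul_right _ h2

/-! ### (D), (F) -/

omit [Finite S] in
/-- (D) -/
theorem moves_D (h : Dat B P Q D) [hn : D.Normal] {t : S} (htB : t ∉ B) (ht : ∀ a ∈ P, t * a * t⁻¹ ∈ P)
    (ht' : ∀ b ∈ Q, t * b * t⁻¹ ∈ Q) (htt : t * t ∈ B) : ∃ d ∈ D, t * d * t⁻¹ ≠ d := by
  by_contra hcon
  push Not at hcon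
  obtain ⟨⟨a0, ha0, ha0D⟩, ⟨b, hb, hbD⟩⟩ := h.faith t htB ht
  set a : S := a0 * (t * a0 * t⁻¹) with ha
  have haP : a ∈ P := P.mul_mem ha0 (ht a0 ha0)
  have haD : a ∉ D := by
    intro h1
    apply ha0D
    have h2 := h.comm_P ha0 (ht a0 ha0)
    rw [ha, h2] at h1
    rwa [h.inv_P ha0]
  -- `[t, a] ∈ D`
  have h1 : t * a * t⁻¹ * a⁻¹ ∈ D := by
    have h3 : (t * t) * a0 * (t * t)⁻¹ * a0⁻¹ ∈ D := h.comm_B hn htt (h.P_le ha0)
    have h4 := h.comm_P (ht a0 ha0) (P.inv_mem ha0)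
    have h5 : t * (t * a0 * t⁻¹) * t⁻¹ ∈ P := ht _ (ht a0 ha0)
    have h6 := h.comm_P (ht a0 ha0) h5
    have e : t * a * t⁻¹ * a⁻¹ = (t * t) * a0 * (t * t)⁻¹ * a0⁻¹ := by
      calc t * a * t⁻¹ * a⁻¹ = ((t * a0 * t⁻¹) * (t * (t * a0 * t⁻¹) * t⁻¹)) * (t * a0 * t⁻¹)⁻¹ * a0⁻¹ := by
            rw [ha]; group
        _ = ((t * (t * a0 * t⁻¹) * t⁻¹) * (t * a0 * t⁻¹)) * (t * a0 * t⁻¹)⁻¹ * a0⁻¹ := by rw [h6]
        _ = _ := by group
    rwa [e]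
  set c : S := t * a * t⁻¹ * a⁻¹ with hc
  have hta : t * a * t⁻¹ = c * a := by rw [hc]; group
  set b' : S := t * b * t⁻¹ with hb'
  have hb'Q : b' ∈ Q := ht' b hb
  have hcb : b' * c = c * b' := h.comm_D (h.Q_le hb'Q) h1
  have h3 : a * b' * a⁻¹ * b'⁻¹ = a * b * a⁻¹ * b⁻¹ := by
    have h4 := hcon _ (h.cc a haP b hb)
    have h5 : t * (a * b * a⁻¹ * b⁻¹) * t⁻¹ = (t * a * t⁻¹) * b' * (t * a * t⁻¹)⁻¹ * b'⁻¹ := by
      rw [hb']; group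
    rw [h5, hta] at h4
    have hac : a * c = c * a := h.comm_D (h.P_le haP) h1
    have hcb2 : c * (a * b' * a⁻¹ * b'⁻¹) = (a * b' * a⁻¹ * b'⁻¹) * c := by
      have := h.comm_D (h.P_le (h.D_le_P h1)) (h.cc a haP b' hb'Q)
      exact this
    have h6 : c * a * b' * (c * a)⁻¹ * b'⁻¹ = a * b' * a⁻¹ * b'⁻¹ := by
      calc c * a * b' * (c * a)⁻¹ * b'⁻¹ = c * (a * b' * a⁻¹) * (c⁻¹ * b'⁻¹) := by group
        _ = c * (a * b' * a⁻¹) * (b' * c)⁻¹ := by group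
        _ = c * (a * b' * a⁻¹) * (c * b')⁻¹ := by rw [hcb]
        _ = (c * (a * b' * a⁻¹ * b'⁻¹)) * c⁻¹ := by group
        _ = _ := by rw [hcb2]; group
    rw [h6] at h4
    exact h4
  -- so `b⁻¹ b'` commutes with `a`
  have h4 : a * (b⁻¹ * b') = (b⁻¹ * b') * a := by
    have h9 : b' * b⁻¹ = b⁻¹ * b' := h.comm_Q hb'Q (Q.inv_mem hb)
    set e : S := a * b * a⁻¹ * b⁻¹ with he
    have heD : e ∈ D := h.cc a haP b hb
    have h5 : a * b' * a⁻¹ = e * b' := by rw [← h3]; group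
    have h6 : a * b * a⁻¹ = e * b := by rw [he]; group
    have h7 := h.comm_D (h.Q_le (Q.mul_mem hb'Q (Q.inv_mem hb))) heD
    have h12 : a * (b' * b⁻¹) * a⁻¹ = b' * b⁻¹ := by
      calc a * (b' * b⁻¹) * a⁻¹ = (a * b' * a⁻¹) * (a * b * a⁻¹)⁻¹ := by group
        _ = (e * b') * (e * b)⁻¹ := by rw [h5, h6]
        _ = e * (b' * b⁻¹) * e⁻¹ := by group
        _ = (b' * b⁻¹) * e * e⁻¹ := by rw [h7]
        _ = _ := by group
    have h11 : a * (b' * b⁻¹) = (b' * b⁻¹) * a := by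
      rw [mul_inv_eq_iff_eq_mul] at h12
      exact h12
    rw [← h9]
    exact h11
  apply hbD
  have h5 : b⁻¹ * b' ∈ D := by
    by_contra h6
    exact h.nc a haP haD _ (Q.mul_mem (Q.inv_mem hb) hb'Q) h6 h4
  have h6 := h.comm_Q hb'Q (Q.inv_mem hb)
  rw [h6]
  exact h5

omit [Finite S] in
theorem not_both (h : Dat B P Q D) {u : S} (h1 : ∀ a ∈ P, u * a * u⁻¹ ∈ P) (h2 : ∀ a ∈ P, u * a * u⁻¹ ∈ Q) : False := by
  have hf : Finite P := Nat.finite_of_card_ne_zero (by rw [h.cP]; norm_num)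
  have hf2 : Finite D := Nat.finite_of_card_ne_zero (by rw [h.cD]; norm_num)
  have h3 : ∀ a : P, u * a * u⁻¹ ∈ D := fun a => h.mem_D (h1 a a.2) (h2 a a.2)
  have h4 := Nat.card_le_card_of_injective (fun a : P => (⟨_, h3 a⟩ : D)) (by
    intro a b hab
    have h5 : u * (a : S) * u⁻¹ = u * (b : S) * u⁻¹ := Subtype.mk.inj hab
    exact Subtype.ext (mul_left_cancel (mul_right_cancel h5)))
  rw [h.cP, h.cD] at h4
  omega

/-- the stabiliser of `P` -/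
def Stab (h : Dat B P Q D) : Subgroup S where
  carrier := {u | ∀ a ∈ P, u * a * u⁻¹ ∈ P}
  mul_mem' := by
    intro u v hu hv a ha
    have e : u * v * a * (u * v)⁻¹ = u * (v * a * v⁻¹) * u⁻¹ := by group
    rw [e]
    exact hu _ (hv a ha)
  one_mem' := by
    intro a ha
    have e : 1 * a * (1 : S)⁻¹ = a := by group
    rwa [e]
  inv_mem' := by
    intro u hu
    rcases h.perm u⁻¹ with h1 | h1
    · exact h1.1
    · exfalso
      refine h.not_both (u := 1) (fun a ha => ?_) (fun a ha => ?_)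
      · have e : 1 * a * (1 : S)⁻¹ = a := by group
        rwa [e]
      · have h2 := h1.1 _ (hu a ha)
        have e : u⁻¹ * (u * a * u⁻¹) * u⁻¹⁻¹ = 1 * a * (1 : S)⁻¹ := by group
        rwa [e] at h2

omit [Finite S] in
theorem mem_Stab (h : Dat B P Q D) {u : S} : u ∈ h.Stab ↔ ∀ a ∈ P, u * a * u⁻¹ ∈ P := Iff.rfl

omit [Finite S] in
theorem index_Stab (h : Dat B P Q D) : h.Stab.index = 2 := by
  rw [Subgroup.index_eq_two_iff]
  obtain ⟨s, hs⟩ := h.swap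
  have hs' : ∀ b ∈ Q, s * b * s⁻¹ ∈ P := by
    rcases h.perm s with h1 | h1
    · exact (h.not_both h1.1 hs).elim
    · exact h1.2
  refine ⟨s, fun b => ?_⟩
  rcases h.perm b with h1 | h1
  · refine Or.inr ⟨h1.1, fun h2 => ?_⟩
    refine h.not_both h2 (fun a ha => ?_)
    have e : b * s * a * (b * s)⁻¹ = b * (s * a * s⁻¹) * b⁻¹ := by group
    rw [e]
    exact h1.2 _ (hs a ha)
  · refine Or.inl ⟨fun a ha => ?_, fun h2 => h.not_both h2 h1.1⟩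
    have e : b * s * a * (b * s)⁻¹ = b * (s * a * s⁻¹) * b⁻¹ := by group
    rw [e]
    exact h1.2 _ (hs a ha)

omit [Finite S] in
theorem B_le_Stab (h : Dat B P Q D) : B ≤ h.Stab := fun _ hb _ ha => h.conj_B_P hb ha

omit [Finite S] in
/-- (F) -/
theorem exists_t (h : Dat B P Q D) (hi : B.index = 4) : ∃ t : S, t ∉ B ∧ (∀ a ∈ P, t * a * t⁻¹ ∈ P) ∧
    (∀ b ∈ Q, t * b * t⁻¹ ∈ Q) ∧ t * t ∈ B := by
  have h1 := Subgroup.relIndex_mul_index h.B_le_Stab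
  rw [h.index_Stab, hi] at h1
  have h2 : B.relIndex h.Stab = 2 := by omega
  obtain ⟨t, ht, htB⟩ : ∃ t ∈ h.Stab, t ∉ B := by
    by_contra h3
    push Not at h3
    rw [relIndex_eq_one.2 h3] at h2
    omega
  refine ⟨t, htB, ht, ?_, ?_⟩
  · rcases h.perm t with h3 | h3
    · exact h3.2
    · exact (h.not_both ht h3.1).elim
  · have h3 := Subgroup.mul_self_mem_of_index_two (H := B.subgroupOf h.Stab) h2 ⟨t, ht⟩
    exact h3

/-! ### the main case analysis -/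

theorem main (h : Dat B P Q D) {X Y : Subgroup S} (hs : ElemSection 2 X Y) :
    Nat.card X ≤ 16 * Nat.card Y := by
  have hn := h.normal_D
  have hBn := h.normal_B
  have hY1 : 1 ≤ Nat.card Y := Nat.card_pos
  set X0 : Subgroup S := X ⊓ B with hX0
  have hX0B : X0 ≤ B := inf_le_right
  have hX0X : X0 ≤ X := inf_le_left
  -- the index
  have hc1 : Nat.card X0 * B.relIndex X = Nat.card X := by
    have h1 := card_mul_relIndex hX0X
    rwa [hX0, Subgroup.inf_relIndex_left] at h1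
  have hcd : B.relIndex X ∣ 4 := (Subgroup.relIndex_dvd_index_of_normal B X).trans h.idx
  have hcpos : B.relIndex X ≠ 0 := by
    intro h1
    rw [h1, mul_zero] at hc1
    exact absurd hc1.symm Nat.card_pos.ne'
  -- `U = X0 D`
  set U : Subgroup S := X0 ⊔ D with hU
  have hUB : U ≤ B := sup_le hX0B (h.D_le_P.trans h.P_le)
  have hUc : Nat.card U * Nat.card (X0 ⊓ D : Subgroup S) = Nat.card X0 * 4 := by
    rw [← h.cD, hU]
    have h1 := card_sup_mul (K := D) (H := X0) (fun x _ k hk => hn.conj_mem k hk x)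
    rw [sup_comm, inf_comm, h1, mul_comm]
  have hxd : Nat.card (X0 ⊓ D : Subgroup S) ≤ 4 := by
    rw [← h.cD]; exact card_le_of_le inf_le_right
  have hUdvd : Nat.card U ∣ 64 := by
    rw [← h.card_B]; exact Subgroup.card_dvd_of_le hUB
  -- commutators of `U`
  have hUcomm : ∀ x ∈ U, ∀ y ∈ U, x * y * x⁻¹ * y⁻¹ ∈ Y := by
    have hdec : ∀ x ∈ U, ∃ a ∈ X0, ∃ d ∈ D, x = a * d := by
      intro x hx
      rw [hU, sup_comm] at hx
      exact mem_sup_of_conj (fun y _ k hk => hn.conj_mem k hk y) hx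
    intro x hx y hy
    obtain ⟨a, ha, d, hd, rfl⟩ := hdec x hx
    obtain ⟨b, hb, e, he, rfl⟩ := hdec y hy
    have h1 := h.comm_D (hX0B hb) hd
    have h2 := h.comm_D (B.inv_mem (hX0B ha)) he
    have h3 := h.comm_D (h.P_le (h.D_le_P he)) hd
    have e1 : a * d * (b * e) * (a * d)⁻¹ * (b * e)⁻¹ = a * b * a⁻¹ * b⁻¹ := by
      calc a * d * (b * e) * (a * d)⁻¹ * (b * e)⁻¹ = a * (d * b) * e * d⁻¹ * a⁻¹ * e⁻¹ * b⁻¹ := by group
        _ = a * (b * d) * e * d⁻¹ * a⁻¹ * e⁻¹ * b⁻¹ := by rw [h1]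
        _ = a * b * (d * e) * d⁻¹ * a⁻¹ * e⁻¹ * b⁻¹ := by group
        _ = a * b * (e * d) * d⁻¹ * a⁻¹ * e⁻¹ * b⁻¹ := by rw [h3]
        _ = a * b * (e * a⁻¹) * e⁻¹ * b⁻¹ := by group
        _ = a * b * (a⁻¹ * e) * e⁻¹ * b⁻¹ := by rw [h2]
        _ = _ := by group
    rw [e1]
    exact hs.comm a (hX0X ha) b (hX0X hb)
  by_cases hDY : D ≤ Y
  · -- `D ≤ Y`
    have h4 : 4 ≤ Nat.card Y := by rw [← h.cD]; exact card_le_of_le hDY
    by_cases hXB : X ≤ B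
    · have h5 := card_le_of_le hXB
      rw [h.card_B] at h5
      omega
    obtain ⟨x, hxX, hxB⟩ := SetLike.not_le_iff_exists.1 hXB
    have h6 := h.card_le_of_comm (x := x) hX0B hDY (fun b hb => hs.comm x hxX b (hX0X hb))
    have h7 : Nat.card (X0 ⊓ Cen B D x : Subgroup S) ≤ 16 :=
      (card_le_of_le inf_le_right).trans (h.card_Cen_le hxB)
    have h8 : B.relIndex X ≤ 4 := Nat.le_of_dvd (by norm_num) hcd
    calc Nat.card X = Nat.card X0 * B.relIndex X := hc1.symm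
      _ ≤ Nat.card X0 * 4 := Nat.mul_le_mul_left _ h8
      _ = 4 * Nat.card X0 := mul_comm _ _
      _ ≤ _ := h6
      _ ≤ 16 * Nat.card Y := Nat.mul_le_mul_right _ h7
  -- now `|U| ≤ 16`
  have hU16 : Nat.card U ≤ 16 := by
    by_contra h1
    have h2 : 32 ≤ Nat.card U := by
      obtain ⟨k, hk⟩ := hUdvd
      have hk0 : 1 ≤ k := by
        rcases Nat.eq_zero_or_pos k with h3 | h3
        · rw [h3, mul_zero] at hk; omega
        · exact h3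
      by_contra h3
      have h4 : k ≤ 3 := by
        by_contra h5
        have : 17 * 4 ≤ Nat.card U * k := Nat.mul_le_mul (by omega) (by omega)
        omega
      have h5 : k = 1 ∨ k = 2 ∨ k = 3 := by omega
      rcases h5 with rfl | rfl | rfl <;> omega
    exact hDY (h.D_le_of_comm hUB h2 hUcomm)
  have hX0le : Nat.card X0 ≤ 16 := by
    have h1 : Nat.card U * Nat.card (X0 ⊓ D : Subgroup S) ≤ 16 * 4 := Nat.mul_le_mul hU16 hxd
    omega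
  -- `B.relIndex X ∈ {1, 2, 4}`
  have h124 : B.relIndex X = 1 ∨ B.relIndex X = 2 ∨ B.relIndex X = 4 := by
    have h1 : B.relIndex X ≤ 4 := Nat.le_of_dvd (by norm_num) hcd
    have h2 : B.relIndex X = 1 ∨ B.relIndex X = 2 ∨ B.relIndex X = 3 ∨ B.relIndex X = 4 := by omega
    rcases h2 with h2 | h2 | h2 | h2
    · exact Or.inl h2
    · exact Or.inr (Or.inl h2)
    · rw [h2] at hcd; omega
    · exact Or.inr (Or.inr h2)
  rcases h124 with h1 | h2 | h3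
  · rw [h1, mul_one] at hc1
    omega
  · -- index 2
    rw [h2] at hc1
    by_contra hcon
    have hY : Nat.card Y = 1 := by omega
    have hYb : Y = ⊥ := Subgroup.card_eq_one.1 hY
    have h5 : 8 < Nat.card X0 := by omega
    have h6 : Nat.card X0 ∣ 64 := by rw [← h.card_B]; exact Subgroup.card_dvd_of_le hX0B
    have h7 : Nat.card X0 = 16 := by
      obtain ⟨k, hk⟩ := h6
      have hk1 : 4 ≤ k := by
        by_contra h8
        have : Nat.card X0 * k ≤ 16 * 3 := Nat.mul_le_mul hX0le (by omega)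
        omega
      have hk2 : k ≤ 7 := by
        by_contra h8
        have : 9 * 8 ≤ Nat.card X0 * k := Nat.mul_le_mul (by omega) (by omega)
        omega
      have h9 : k = 4 ∨ k = 5 ∨ k = 6 ∨ k = 7 := by omega
      rcases h9 with rfl | rfl | rfl | rfl <;> omega
    have hXB : ¬ X ≤ B := by
      intro h8
      rw [relIndex_eq_one.2 h8] at h2
      omega
    obtain ⟨x, hxX, hxB⟩ := SetLike.not_le_iff_exists.1 hXB
    have hsq : ∀ a ∈ X, a * a = 1 := by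
      intro a ha
      have := hs.pow a ha
      rw [hYb, mem_bot, pow_two] at this
      exact this
    have hcx : ∀ a ∈ X, x * a * x⁻¹ = a := by
      intro a ha
      have := hs.comm x hxX a ha
      rw [hYb, mem_bot] at this
      exact mul_inv_eq_one.1 this
    have key : ∀ {P Q : Subgroup S}, Dat B P Q D → X0 = P → False := by
      intro P Q h hXP
      have h8 : ∀ a ∈ P, x * a * x⁻¹ ∈ P := by
        intro a ha
        rw [hcx a (hX0X (by rw [hXP]; exact ha))]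
        exact ha
      obtain ⟨a, ha, ha2⟩ := (h.faith x hxB h8).1
      apply ha2
      rw [hcx a (hX0X (by rw [hXP]; exact ha)), mul_inv_cancel]
      exact D.one_mem
    by_cases hXP : X0 ≤ P
    · exact key h (eq_of_card hXP (by rw [h.cP, h7]))
    · obtain ⟨p, hpX, hpP⟩ := SetLike.not_le_iff_exists.1 hXP
      have hpQ : p ∈ Q := (h.mem_or (hX0B hpX) (hsq p (hX0X hpX))).resolve_left hpP
      have hXQ : X0 ≤ Q := by
        intro q hq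
        rcases h.mem_or (hX0B hq) (hsq q (hX0X hq)) with h8 | h8
        · have h9 := X0.mul_mem hpX hq
          rcases h.mem_or (hX0B h9) (hsq _ (hX0X h9)) with h10 | h10
          · exact absurd ((P.mul_mem_cancel_right h8).1 h10) hpP
          · exact (Q.mul_mem_cancel_left hpQ).1 h10
        · exact h8
      exact key h.symm (eq_of_card hXQ (by rw [h.cQ, h7]))
  · -- index 4
    have hi : B.index = 4 := by
      have h4 : B.relIndex X ∣ B.index := Subgroup.relIndex_dvd_index_of_normal B X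
      rw [h3] at h4
      exact Nat.dvd_antisymm h.idx h4
    obtain ⟨t, htB, ht, ht', htt⟩ := h.exists_t hi
    obtain ⟨s, hsw⟩ := h.swap
    have hcover : ∀ u : S, ∃ x ∈ X, ∃ b ∈ B, u = x * b := by
      intro u
      have h4 := Subgroup.relIndex_sup_right X B
      have h5 := Subgroup.relIndex_mul_index (le_sup_right : B ≤ X ⊔ B)
      rw [h4, h3, hi] at h5
      have h6 : X ⊔ B = ⊤ := Subgroup.index_eq_one.1 (by omega)
      have h7 : u ∈ B ⊔ X := by rw [sup_comm, h6]; exact mem_top u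
      exact mem_sup_of_conj (fun y _ k hk => hBn.conj_mem k hk y) h7
    rw [h3] at hc1
    -- `[X0, X] ≤ D` ==> `|U| ≤ 8`
    have hfix : Y ≤ D → Nat.card U ≤ 8 := by
      intro hYD
      have h4 : ∀ u : S, X0 ≤ Cen B D u := by
        intro u b hb
        obtain ⟨x, hx, b', hb', rfl⟩ := hcover u
        rw [mem_Cen]
        refine ⟨hX0B hb, ?_⟩
        have h5 := mk_comm.2 (hYD (hs.comm x hx b (hX0X hb)))
        have h6 := h.mk_comm_B hb' (hX0B hb)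
        have c1 : Commute (QuotientGroup.mk' D b) (QuotientGroup.mk' D x) := h5
        have c2 : Commute (QuotientGroup.mk' D b) (QuotientGroup.mk' D b') := h6
        rw [map_mul]
        exact c1.mul_right c2
      refine le_trans (card_le_of_le ?_) (h.card_fix_le hsw htB ht ht')
      exact sup_le (le_inf (h4 t) (h4 s)) (le_inf (h.D_le_Cen t) (h.D_le_Cen s))
    have hD2 : ¬ D ≤ X → Nat.card (X0 ⊓ D : Subgroup S) ≤ 2 := by
      intro h4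
      have h5 : 2 * Nat.card (X0 ⊓ D : Subgroup S) ≤ Nat.card D := by
        refine two_mul_le inf_le_right ?_
        obtain ⟨d, hd, hdX⟩ := SetLike.not_le_iff_exists.1 h4
        exact ⟨d, hd, fun h6 => hdX (hX0X h6.1)⟩
      rw [h.cD] at h5
      omega
    have hD1 : D ≤ X → ∃ y ∈ Y, y ∈ D ∧ y ≠ 1 := by
      intro h4
      obtain ⟨d, hd, hd2⟩ := h.moves_D htB ht ht' htt
      obtain ⟨x, hx, b, hb, rfl⟩ := hcover t
      have h5 := h.comm_D hb hd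
      have e : x * b * d * (x * b)⁻¹ = x * d * x⁻¹ := by
        calc x * b * d * (x * b)⁻¹ = x * (b * d) * b⁻¹ * x⁻¹ := by group
          _ = x * (d * b) * b⁻¹ * x⁻¹ := by rw [h5]
          _ = _ := by group
      rw [e] at hd2
      refine ⟨x * d * x⁻¹ * d⁻¹, hs.comm x hx d (h4 hd), D.mul_mem (hn.conj_mem d hd x) (D.inv_mem hd), ?_⟩
      intro h6
      exact hd2 (mul_inv_eq_one.1 h6)
    by_cases hYD : Y ≤ D
    · have h5 := hfix hYD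
      by_cases hDX : D ≤ X
      · obtain ⟨y, hy, _, hy1⟩ := hD1 hDX
        have h6 : 2 ≤ Nat.card Y := by
          have h7 := two_mul_le (bot_le : (⊥ : Subgroup S) ≤ Y) ⟨y, hy, fun h8 => hy1 (mem_bot.1 h8)⟩
          rw [Subgroup.card_bot] at h7
          omega
        have h8 : Nat.card U * Nat.card (X0 ⊓ D : Subgroup S) ≤ 8 * 4 := Nat.mul_le_mul h5 hxd
        omega
      · have h6 := hD2 hDX
        have h8 : Nat.card U * Nat.card (X0 ⊓ D : Subgroup S) ≤ 8 * 2 := Nat.mul_le_mul h5 h6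
        omega
    · obtain ⟨y, hy, hyD⟩ := SetLike.not_le_iff_exists.1 hYD
      have h6 : 2 * Nat.card (Y ⊓ D : Subgroup S) ≤ Nat.card Y :=
        two_mul_le inf_le_left ⟨y, hy, fun h7 => hyD h7.2⟩
      have h7 : 1 ≤ Nat.card (Y ⊓ D : Subgroup S) := Nat.card_pos
      by_cases hDX : D ≤ X
      · obtain ⟨w, hw, hwD, hw1⟩ := hD1 hDX
        have h8 := two_mul_le (bot_le : (⊥ : Subgroup S) ≤ Y ⊓ D) ⟨w, ⟨hw, hwD⟩, fun h8 => hw1 (mem_bot.1 h8)⟩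
        rw [Subgroup.card_bot] at h8
        omega
      · have h8 := hD2 hDX
        have h9 : Nat.card U * Nat.card (X0 ⊓ D : Subgroup S) ≤ 16 * 2 := Nat.mul_le_mul hU16 h8
        omega

/-- **Type `L₃(4)`: sectional 2-rank at most 4.** -/
theorem rank (h : Dat B P Q D) : SectionalPRankLE 2 4 S := by
  rw [sectionalPRankLE_iff]
  intro X Y hs
  exact h.main hs

end Dat

end Cfsg.Agent.Omega.SQ1.RankFour

end

section


/-!
# OMEGA / SQT, node SQ2 = FF-1: pairs with `b = 1`, CASE A  (helper121, bb #9675), steps (1)-(3)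

`P₁, P₂` with common Sylow 2-subgroup `S`, `Qᵢ = O₂(Pᵢ)`, `Vᵢ ≤ Ω₁ Z(Qᵢ)` normal in `Pᵢ` with `C_S(Vᵢ) = Qᵢ`, each
`Vⱼ` a (natural) offender on `Vᵢ`, no nontrivial subgroup of `S` normal in both.  Then `Q₁, Q₂` are elementary abelian,
`Qᵢ = Vᵢ (Q₁ ∩ Q₂) = Vᵢ Cᵢ`, `|Qᵢ : Q₁ ∩ Q₂| = |Q₁ ∩ Q₂ : Cᵢ| = a`, `C₁ ∩ C₂ = 1`.
-/

set_option autoImplicit false

open Subgroup

namespace Cfsg.Agent.Omega.FFOne

variable {G : Type*} [Group G]

/-- One side of the pair. -/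
structure Side (P S Q V : Subgroup G) : Prop where
  SP : S ≤ P
  QS : Q ≤ S
  VQ : V ≤ Q
  Qn : ∀ g ∈ P, ∀ x ∈ Q, g * x * g⁻¹ ∈ Q
  Vn : ∀ g ∈ P, ∀ x ∈ V, g * x * g⁻¹ ∈ V
  sq : ∀ v ∈ V, v * v = 1
  cen : ∀ x ∈ S, (∀ v ∈ V, x * v = v * x) → x ∈ Q
  com : ∀ x ∈ Q, ∀ v ∈ V, x * v = v * x

/-- `A` is an offender on `V` (output of the FF-theorem). -/
structure Off (P S Q V A : Subgroup G) (a : ℕ) : Prop where
  /-- `|V : C_V(A)| = a` -/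
  idx : (V ⊓ centralizer (A : Set G)).relIndex V = a
  /-- `C_S(V / C_V(A)) ≤ A Q` -/
  act : ∀ x ∈ S, (∀ v ∈ V, x * v * x⁻¹ * v⁻¹ ∈ centralizer (A : Set G)) → ∃ y ∈ A, ∃ q ∈ Q, x = y * q
  /-- two conjugates of `A` generate `⟨A^P⟩` modulo `Q` -/
  two : ∃ g ∈ P, ∀ K : Subgroup G, A ≤ K → (∀ x ∈ A, g * x * g⁻¹ ∈ K) → Q ≤ K →
    ∀ h ∈ P, ∀ x ∈ A, h * x * h⁻¹ ∈ K
  /-- `|V : C_V(⟨A^P⟩)| = a²` -/
  full : a * a ≤ (V ⊓ ⨅ h : P, centralizer ((A.map (MulAut.conj (h : G)).toMonoidHom : Subgroup G) : Set G)).relIndex V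
  /-- `P = ⟨A^P⟩ S` -/
  gen : ∀ K : Subgroup G, S ≤ K → (∀ g ∈ P, ∀ x ∈ A, g * x * g⁻¹ ∈ K) → P ≤ K

/-- The situation after step (1). -/
structure Mut (P₁ P₂ S Q₁ Q₂ V₁ V₂ : Subgroup G) (a : ℕ) : Prop where
  s₁ : Side P₁ S Q₁ V₁
  s₂ : Side P₂ S Q₂ V₂
  o₁ : Off P₁ S Q₁ V₁ V₂ a
  o₂ : Off P₂ S Q₂ V₂ V₁ a
  core : ∀ X : Subgroup G, X ≤ S → (∀ g ∈ P₁, ∀ x ∈ X, g * x * g⁻¹ ∈ X) → (∀ g ∈ P₂, ∀ x ∈ X, g * x * g⁻¹ ∈ X) →
    X = ⊥

/-- The subgroup `C_Q(⟨A^P⟩)`. -/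
def CC (P Q A : Subgroup G) : Subgroup G :=
  Q ⊓ ⨅ h : P, centralizer ((A.map (MulAut.conj (h : G)).toMonoidHom : Subgroup G) : Set G)

theorem mem_CC {P Q A : Subgroup G} {x : G} :
    x ∈ CC P Q A ↔ x ∈ Q ∧ ∀ h ∈ P, ∀ y ∈ A, x * (h * y * h⁻¹) = h * y * h⁻¹ * x := by
  rw [CC, mem_inf, mem_iInf]
  refine and_congr_right fun _ => ⟨fun hx h hh y hy => ?_, fun hx h => ?_⟩
  · exact (mem_centralizer_iff.1 (hx ⟨h, hh⟩) _ ⟨y, hy, rfl⟩).symm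
  · rw [mem_centralizer_iff]
    rintro _ ⟨y, hy, rfl⟩
    exact (hx h h.2 y hy).symm

theorem mem_inf_cen {V A : Subgroup G} {x : G} :
    x ∈ V ⊓ centralizer (A : Set G) ↔ x ∈ V ∧ ∀ y ∈ A, x * y = y * x := by
  rw [mem_inf, mem_centralizer_iff]
  exact and_congr_right fun _ => ⟨fun h y hy => (h y hy).symm, fun h y hy => (h y hy).symm⟩

/-- `Q = V D` implies `|Q : D| = |V : V ∩ D|` -/
theorem relIndex_of_dec {V Q D : Subgroup G} (hVQ : V ≤ Q) (hdec : ∀ x ∈ Q, ∃ v ∈ V, ∃ y ∈ D, x = v * y) :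
    D.relIndex Q = D.relIndex V := by
  have e := quotientSubgroupOfEmbeddingOfLE D hVQ
  have h1 : Function.Surjective (quotientSubgroupOfEmbeddingOfLE D hVQ) := by
    intro q
    obtain ⟨x, rfl⟩ := QuotientGroup.mk_surjective q
    obtain ⟨v, hv, y, hy, e⟩ := hdec x x.2
    refine ⟨QuotientGroup.mk ⟨v, hv⟩, ?_⟩
    rw [quotientSubgroupOfEmbeddingOfLE_apply_mk]
    rw [QuotientGroup.eq]
    rw [mem_subgroupOf]
    have e2 : (((inclusion hVQ ⟨v, hv⟩)⁻¹ * x : Q) : G) = y := by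
      push_cast
      rw [e, coe_inclusion]
      group
    rw [e2]
    exact hy
  exact (Nat.card_congr (Equiv.ofBijective _ ⟨(quotientSubgroupOfEmbeddingOfLE D hVQ).injective, h1⟩)).symm

/-- the converse -/
theorem dec_of_relIndex [Finite G] {V Q D : Subgroup G} (hVQ : V ≤ Q) (h : D.relIndex Q ≤ D.relIndex V) :
    ∀ x ∈ Q, ∃ v ∈ V, ∃ y ∈ D, x = v * y := by
  have h1 : Function.Bijective (quotientSubgroupOfEmbeddingOfLE D hVQ) := by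
    have h2 := (quotientSubgroupOfEmbeddingOfLE D hVQ).injective
    apply (Nat.bijective_iff_injective_and_card _).2
    exact ⟨h2, le_antisymm (Nat.card_le_card_of_injective _ h2) h⟩
  intro x hx
  obtain ⟨q, hq⟩ := h1.2 (QuotientGroup.mk ⟨x, hx⟩)
  obtain ⟨v, rfl⟩ := QuotientGroup.mk_surjective q
  rw [quotientSubgroupOfEmbeddingOfLE_apply_mk, QuotientGroup.eq, mem_subgroupOf] at hq
  refine ⟨v, v.2, (v : G)⁻¹ * x, ?_, by group⟩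
  exact hq

theorem relIndex_ne [Finite G] (H K : Subgroup G) : H.relIndex K ≠ 0 := index_ne_zero_of_finite

theorem card_of_relIndex {H K : Subgroup G} (h : H ≤ K) : H.relIndex K * Nat.card H = Nat.card K := by
  rw [← relIndex_bot_left, ← relIndex_bot_left, mul_comm]
  exact relIndex_mul_relIndex ⊥ H K bot_le h

namespace Mut

variable {P₁ P₂ S Q₁ Q₂ V₁ V₂ : Subgroup G} {a : ℕ}

theorem symm (h : Mut P₁ P₂ S Q₁ Q₂ V₁ V₂ a) : Mut P₂ P₁ S Q₂ Q₁ V₂ V₁ a :=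
  ⟨h.s₂, h.s₁, h.o₂, h.o₁, fun X hX h1 h2 => h.core X hX h2 h1⟩

/-- (2): `Q₂ = V₂ (Q₁ ∩ Q₂)` -/
theorem dec₂ (h : Mut P₁ P₂ S Q₁ Q₂ V₁ V₂ a) {x : G} (hx : x ∈ Q₂) :
    ∃ v ∈ V₂, ∃ y ∈ Q₁ ⊓ Q₂, x = v * y := by
  have hxS : x ∈ S := h.s₂.QS hx
  obtain ⟨v, hv, q, hq, rfl⟩ := h.o₁.act x hxS fun w hw => by
    -- `[x, w] ∈ Q₂` centralises `V₂`
    have h1 : x * w * x⁻¹ * w⁻¹ ∈ Q₂ := by
      have hwS : w ∈ S := h.s₁.QS (h.s₁.VQ hw)
      have h2 := h.s₂.Qn w (h.s₂.SP hwS) x⁻¹ (inv_mem hx)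
      have h3 := mul_mem hx h2
      have e : x * (w * x⁻¹ * w⁻¹) = x * w * x⁻¹ * w⁻¹ := by group
      rwa [e] at h3
    rw [mem_centralizer_iff]
    intro u hu
    exact (h.s₂.com _ h1 u hu).symm
  refine ⟨v, hv, q, ⟨hq, ?_⟩, rfl⟩
  have h1 := mul_mem (inv_mem (h.s₂.VQ hv)) hx
  rwa [inv_mul_cancel_left] at h1

theorem dec₁ (h : Mut P₁ P₂ S Q₁ Q₂ V₁ V₂ a) {x : G} (hx : x ∈ Q₁) :
    ∃ v ∈ V₁, ∃ y ∈ Q₁ ⊓ Q₂, x = v * y := by
  obtain ⟨v, hv, y, hy, e⟩ := h.symm.dec₂ hx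
  exact ⟨v, hv, y, ⟨hy.2, hy.1⟩, e⟩

/-- the square of an element of `Q₁` is the square of an element of `Q₁ ∩ Q₂` -/
theorem sq_eq (h : Mut P₁ P₂ S Q₁ Q₂ V₁ V₂ a) {x : G} (hx : x ∈ Q₁) : ∃ y ∈ Q₁ ⊓ Q₂, x * x = y * y := by
  obtain ⟨v, hv, y, hy, rfl⟩ := h.dec₁ hx
  refine ⟨y, hy, ?_⟩
  have h1 := h.s₁.com y hy.1 v hv
  calc v * y * (v * y) = v * (y * v) * y := by group
    _ = (v * v) * (y * y) := by rw [h1]; group
    _ = y * y := by rw [h.s₁.sq v hv, one_mul]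

/-- (3): `Q₁` has exponent two -/
theorem sq₁ (h : Mut P₁ P₂ S Q₁ Q₂ V₁ V₂ a) {x : G} (hx : x ∈ Q₁) : x * x = 1 := by
  set X : Subgroup G := closure {z : G | ∃ y ∈ Q₁ ⊓ Q₂, z = y * y} with hX
  have hXS : X ≤ S := by
    rw [hX, closure_le]
    rintro _ ⟨y, hy, rfl⟩
    exact mul_mem (h.s₁.QS hy.1) (h.s₁.QS hy.1)
  have key : ∀ g : G, (∀ y ∈ Q₁ ⊓ Q₂, g * (y * y) * g⁻¹ ∈ X) → ∀ x ∈ X, g * x * g⁻¹ ∈ X := by
    intro g hg x hx
    have h1 : X ≤ X.comap (MulAut.conj g).toMonoidHom := by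
      conv_lhs => rw [hX]
      rw [closure_le]
      rintro _ ⟨y, hy, rfl⟩
      exact hg y hy
    exact h1 hx
  have hbot := h.core X hXS
    (fun g hg x hx => key g (fun y hy => by
      have h1 := h.s₁.Qn g hg y hy.1
      obtain ⟨z, hz, e⟩ := h.sq_eq h1
      have e2 : g * (y * y) * g⁻¹ = z * z := by rw [← e]; group
      rw [e2]
      exact subset_closure ⟨z, hz, rfl⟩) x hx)
    (fun g hg x hx => key g (fun y hy => by
      have h1 := h.s₂.Qn g hg y hy.2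
      obtain ⟨z, hz, e⟩ := h.symm.sq_eq h1
      have e2 : g * (y * y) * g⁻¹ = z * z := by rw [← e]; group
      rw [e2]
      exact subset_closure ⟨z, ⟨hz.2, hz.1⟩, rfl⟩) x hx)
  obtain ⟨y, hy, e⟩ := h.sq_eq hx
  rw [e]
  have h1 : y * y ∈ X := subset_closure ⟨y, hy, rfl⟩
  rwa [hbot, mem_bot] at h1

theorem sq₂ (h : Mut P₁ P₂ S Q₁ Q₂ V₁ V₂ a) {x : G} (hx : x ∈ Q₂) : x * x = 1 := h.symm.sq₁ hx

theorem inv₁ (h : Mut P₁ P₂ S Q₁ Q₂ V₁ V₂ a) {x : G} (hx : x ∈ Q₁) : x⁻¹ = x :=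
  inv_eq_of_mul_eq_one_left (h.sq₁ hx)

theorem comm₁ (h : Mut P₁ P₂ S Q₁ Q₂ V₁ V₂ a) {x y : G} (hx : x ∈ Q₁) (hy : y ∈ Q₁) : x * y = y * x := by
  have h1 := h.inv₁ (mul_mem hx hy)
  rw [mul_inv_rev, h.inv₁ hx, h.inv₁ hy] at h1
  exact h1.symm

theorem comm₂ (h : Mut P₁ P₂ S Q₁ Q₂ V₁ V₂ a) {x y : G} (hx : x ∈ Q₂) (hy : y ∈ Q₂) : x * y = y * x :=
  h.symm.comm₁ hx hy

/-- an element of `Q₁` centralising `V₂` is in `Q₁ ∩ Q₂` -/
theorem mem_D (h : Mut P₁ P₂ S Q₁ Q₂ V₁ V₂ a) {x : G} (hx : x ∈ Q₁) (hc : ∀ v ∈ V₂, x * v = v * x) :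
    x ∈ Q₁ ⊓ Q₂ := ⟨hx, h.s₂.cen x (h.s₁.QS hx) hc⟩

theorem cen_eq (h : Mut P₁ P₂ S Q₁ Q₂ V₁ V₂ a) : V₁ ⊓ centralizer (V₂ : Set G) = V₁ ⊓ (Q₁ ⊓ Q₂) := by
  ext x
  rw [mem_inf_cen, mem_inf]
  constructor
  · rintro ⟨h1, h2⟩
    exact ⟨h1, h.mem_D (h.s₁.VQ h1) h2⟩
  · rintro ⟨h1, h2⟩
    exact ⟨h1, fun y hy => h.comm₂ h2.2 (h.s₂.VQ hy)⟩

/-- `|Q₁ : Q₁ ∩ Q₂| = a` -/
theorem relIndex_D (h : Mut P₁ P₂ S Q₁ Q₂ V₁ V₂ a) : (Q₁ ⊓ Q₂).relIndex Q₁ = a := by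
  rw [relIndex_of_dec h.s₁.VQ fun x hx => h.dec₁ hx, ← h.o₁.idx, h.cen_eq, inf_comm V₁, inf_relIndex_right]

/-- `Cᵢ = C_{Qᵢ}(⟨Vⱼ^{Pᵢ}⟩)` lies in `Q₁ ∩ Q₂` -/
theorem C_le (h : Mut P₁ P₂ S Q₁ Q₂ V₁ V₂ a) : CC P₁ Q₁ V₂ ≤ Q₁ ⊓ Q₂ := by
  intro x hx
  rw [mem_CC] at hx
  exact h.mem_D hx.1 fun v hv => by simpa using hx.2 1 (one_mem _) v hv

theorem C_norm (h : Mut P₁ P₂ S Q₁ Q₂ V₁ V₂ a) : ∀ g ∈ P₁, ∀ x ∈ CC P₁ Q₁ V₂, g * x * g⁻¹ ∈ CC P₁ Q₁ V₂ := by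
  intro g hg x hx
  rw [mem_CC] at hx ⊢
  refine ⟨h.s₁.Qn g hg x hx.1, fun k hk y hy => ?_⟩
  have h1 := hx.2 (g⁻¹ * k) (mul_mem (inv_mem hg) hk) y hy
  calc g * x * g⁻¹ * (k * y * k⁻¹) = g * (x * (g⁻¹ * k * y * (g⁻¹ * k)⁻¹)) * g⁻¹ := by group
    _ = g * (g⁻¹ * k * y * (g⁻¹ * k)⁻¹ * x) * g⁻¹ := by rw [h1]
    _ = k * y * k⁻¹ * (g * x * g⁻¹) := by group

variable [Finite G]

theorem relIndex_C_le (h : Mut P₁ P₂ S Q₁ Q₂ V₁ V₂ a) : (CC P₁ Q₁ V₂).relIndex Q₁ ≤ a * a := by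
  obtain ⟨g, hg, hgen⟩ := h.o₁.two
  set D := Q₁ ⊓ Q₂ with hD
  set D' := D.map (MulAut.conj g).toMonoidHom with hD'
  have hD'Q : D'.relIndex Q₁ = a := by
    have h1 : Q₁.map (MulAut.conj g).toMonoidHom = Q₁ := by
      ext x
      constructor
      · rintro ⟨y, hy, rfl⟩
        exact h.s₁.Qn g hg y hy
      · intro hx
        have h2 := h.s₁.Qn g⁻¹ (inv_mem hg) x hx
        refine ⟨g⁻¹ * x * g⁻¹⁻¹, h2, ?_⟩
        change g * (g⁻¹ * x * g⁻¹⁻¹) * g⁻¹ = x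
        group
    have h2 := relIndex_map_map_of_injective D Q₁ (f := (MulAut.conj g).toMonoidHom) (MulAut.conj g).injective
    rw [h1] at h2
    rw [hD', h2]
    exact h.relIndex_D
  have hle : D ⊓ D' ≤ CC P₁ Q₁ V₂ := by
    rintro x ⟨hx, hx'⟩
    rw [mem_CC]
    refine ⟨hx.1, ?_⟩
    obtain ⟨y, hy, rfl⟩ := hx'
    have h1 := hgen (centralizer ({(MulAut.conj g).toMonoidHom y} : Set G)) ?_ ?_ ?_
    · intro k hk z hz
      exact (mem_centralizer_singleton_iff.1 (h1 k hk z hz)).symm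
    · intro z hz
      rw [mem_centralizer_singleton_iff]
      exact h.comm₂ (h.s₂.VQ hz) hx.2
    · intro z hz
      rw [mem_centralizer_singleton_iff]
      change g * z * g⁻¹ * (g * y * g⁻¹) = g * y * g⁻¹ * (g * z * g⁻¹)
      have h2 : z * y = y * z := h.comm₂ (h.s₂.VQ hz) hy.2
      calc g * z * g⁻¹ * (g * y * g⁻¹) = g * (z * y) * g⁻¹ := by group
        _ = g * (y * z) * g⁻¹ := by rw [h2]
        _ = g * y * g⁻¹ * (g * z * g⁻¹) := by group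
    · intro z hz
      rw [mem_centralizer_singleton_iff]
      exact h.comm₁ hz hx.1
  calc (CC P₁ Q₁ V₂).relIndex Q₁ ≤ (D ⊓ D').relIndex Q₁ := relIndex_le_of_le_left hle (relIndex_ne _ _)
    _ ≤ D.relIndex Q₁ * D'.relIndex Q₁ := relIndex_inf_le
    _ = a * a := by rw [hD'Q, hD, h.relIndex_D]

omit [Finite G] in
theorem le_relIndex_C (h : Mut P₁ P₂ S Q₁ Q₂ V₁ V₂ a) : a * a ≤ (CC P₁ Q₁ V₂).relIndex V₁ := by
  refine h.o₁.full.trans (le_of_eq ?_)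
  rw [CC, inf_relIndex_left, ← inf_relIndex_right (Q₁ ⊓ _) V₁, inf_right_comm, inf_eq_right.2 h.s₁.VQ,
    inf_relIndex_left]

/-- `Q₁ = V₁ C₁` -/
theorem decC (h : Mut P₁ P₂ S Q₁ Q₂ V₁ V₂ a) {x : G} (hx : x ∈ Q₁) :
    ∃ v ∈ V₁, ∃ y ∈ CC P₁ Q₁ V₂, x = v * y :=
  dec_of_relIndex h.s₁.VQ (h.relIndex_C_le.trans h.le_relIndex_C) x hx

theorem relIndex_C (h : Mut P₁ P₂ S Q₁ Q₂ V₁ V₂ a) : (CC P₁ Q₁ V₂).relIndex Q₁ = a * a :=
  le_antisymm h.relIndex_C_le (h.le_relIndex_C.trans (relIndex_le_of_le_right h.s₁.VQ (relIndex_ne _ _)))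

theorem a_pos (h : Mut P₁ P₂ S Q₁ Q₂ V₁ V₂ a) : 0 < a := by
  rw [← h.relIndex_D]
  exact Nat.pos_of_ne_zero (relIndex_ne _ _)

/-- `|Q₁ ∩ Q₂ : C₁| = a` -/
theorem relIndex_C_D (h : Mut P₁ P₂ S Q₁ Q₂ V₁ V₂ a) : (CC P₁ Q₁ V₂).relIndex (Q₁ ⊓ Q₂) = a := by
  have h1 := relIndex_mul_relIndex _ _ _ h.C_le (inf_le_left : Q₁ ⊓ Q₂ ≤ Q₁)
  rw [h.relIndex_C, h.relIndex_D] at h1
  exact Nat.eq_of_mul_eq_mul_right h.a_pos h1

/-- `C₁ ∩ C₂ = 1` -/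
theorem C_inf (h : Mut P₁ P₂ S Q₁ Q₂ V₁ V₂ a) : CC P₁ Q₁ V₂ ⊓ CC P₂ Q₂ V₁ = ⊥ := by
  set X := CC P₁ Q₁ V₂ ⊓ CC P₂ Q₂ V₁ with hX
  have hSn : ∀ g ∈ S, ∀ x ∈ X, g * x * g⁻¹ ∈ X := fun g hg x hx =>
    ⟨h.C_norm g (h.s₁.SP hg) x hx.1, h.symm.C_norm g (h.s₂.SP hg) x hx.2⟩
  have hN : ∀ g : G, (∀ x ∈ X, g * x * g⁻¹ ∈ X) → g ∈ normalizer (X : Set G) := by
    intro g hg
    have h1 : X.map (MulAut.conj g).toMonoidHom ≤ X := by
      rintro _ ⟨x, hx, rfl⟩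
      exact hg x hx
    have h2 : X.map (MulAut.conj g).toMonoidHom = X :=
      eq_of_le_of_card_ge h1 (by rw [card_map_of_injective (MulAut.conj g).injective])
    rw [mem_normalizer_iff]
    intro x
    refine ⟨hg x, fun hx => ?_⟩
    have h3 : g * x * g⁻¹ ∈ X.map (MulAut.conj g).toMonoidHom := by rw [h2]; exact hx
    obtain ⟨y, hy, e⟩ := h3
    have e2 : y = x := by
      have : g * y * g⁻¹ = g * x * g⁻¹ := e
      simpa using this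
    rwa [← e2]
  have key : ∀ {P₁ P₂ S Q₁ Q₂ V₁ V₂ : Subgroup G} (h : Mut P₁ P₂ S Q₁ Q₂ V₁ V₂ a),
      CC P₁ Q₁ V₂ ⊓ CC P₂ Q₂ V₁ = X → (∀ g ∈ S, ∀ x ∈ X, g * x * g⁻¹ ∈ X) →
      ∀ g ∈ P₁, ∀ x ∈ X, g * x * g⁻¹ ∈ X := by
    intro P₁ P₂ S Q₁ Q₂ V₁ V₂ h hX hSn g hg x hx
    have h1 := h.o₁.gen (normalizer (X : Set G)) (fun s hs => hN s (hSn s hs)) (fun k hk y hy => hN _ ?_) hg
    · exact (mem_normalizer_iff.1 h1 x).1 hx
    · intro z hz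
      have hz1 : z ∈ CC P₁ Q₁ V₂ := by rw [← hX] at hz; exact hz.1
      rw [mem_CC] at hz1
      rw [← hz1.2 k hk y hy, mul_inv_cancel_right]
      exact hz
  refine h.core X ?_ (key h rfl hSn) (key h.symm (inf_comm _ _) hSn)
  exact inf_le_left.trans (h.C_le.trans (inf_le_left.trans h.s₁.QS))

theorem card_D (h : Mut P₁ P₂ S Q₁ Q₂ V₁ V₂ a) :
    Nat.card (CC P₁ Q₁ V₂) * a = Nat.card (Q₁ ⊓ Q₂ : Subgroup G) := by
  rw [← h.relIndex_C_D, mul_comm]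
  exact card_of_relIndex h.C_le

/-- `|C₁| = |C₂|` -/
theorem card_C (h : Mut P₁ P₂ S Q₁ Q₂ V₁ V₂ a) : Nat.card (CC P₁ Q₁ V₂) = Nat.card (CC P₂ Q₂ V₁) := by
  have h1 := h.card_D
  have h2 := h.symm.card_D
  rw [inf_comm, ← h1] at h2
  exact (Nat.eq_of_mul_eq_mul_right h.a_pos h2).symm

/-- `|C₁| ≤ a` -/
theorem card_C_le (h : Mut P₁ P₂ S Q₁ Q₂ V₁ V₂ a) : Nat.card (CC P₁ Q₁ V₂) ≤ a := by
  rw [h.card_C, ← h.relIndex_C_D]
  have h1 : CC P₂ Q₂ V₁ ≤ Q₁ ⊓ Q₂ := by rw [inf_comm]; exact h.symm.C_le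
  have h2 : (CC P₁ Q₁ V₂).relIndex (CC P₂ Q₂ V₁) = Nat.card (CC P₂ Q₂ V₁) := by
    rw [← inf_relIndex_right, h.C_inf, relIndex_bot_left]
  rw [← h2]
  exact relIndex_le_of_le_right h1 (relIndex_ne _ _)

/-- `|Q₁| = a² |C₁|` -/
theorem card_Q (h : Mut P₁ P₂ S Q₁ Q₂ V₁ V₂ a) : Nat.card Q₁ = a * a * Nat.card (CC P₁ Q₁ V₂) := by
  rw [← h.relIndex_C]
  exact (card_of_relIndex (h.C_le.trans inf_le_left)).symm

omit [Finite G] in
/-- `S₀ = Q₁ Q₂` -/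
theorem mem_S₀ (h : Mut P₁ P₂ S Q₁ Q₂ V₁ V₂ a) {x : G} : x ∈ Q₁ ⊔ Q₂ ↔ ∃ u ∈ Q₁, ∃ v ∈ Q₂, x = u * v := by
  constructor
  · intro hx
    have hn : Q₂ ≤ normalizer (Q₁ : Set G) := by
      intro g hg
      have hgP := h.s₁.SP (h.s₂.QS hg)
      rw [mem_normalizer_iff]
      intro x
      refine ⟨h.s₁.Qn g hgP x, fun hx => ?_⟩
      have h1 := h.s₁.Qn g⁻¹ (inv_mem hgP) _ hx
      have e : g⁻¹ * (g * x * g⁻¹) * g⁻¹⁻¹ = x := by group
      rwa [e] at h1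
    have h1 : x ∈ ((Q₁ ⊔ Q₂ : Subgroup G) : Set G) := hx
    rw [coe_mul_of_right_le_normalizer_left Q₁ Q₂ hn] at h1
    obtain ⟨u, hu, v, hv, e⟩ := h1
    exact ⟨u, hu, v, hv, e.symm⟩
  · rintro ⟨u, hu, v, hv, rfl⟩
    exact mul_mem (mem_sup_left hu) (mem_sup_right hv)

omit [Finite G] in
/-- `D = Z(S₀)` -/
theorem mem_D_iff (h : Mut P₁ P₂ S Q₁ Q₂ V₁ V₂ a) {x : G} :
    x ∈ Q₁ ⊓ Q₂ ↔ x ∈ Q₁ ⊔ Q₂ ∧ ∀ y ∈ Q₁ ⊔ Q₂, x * y = y * x := by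
  constructor
  · intro hx
    refine ⟨mem_sup_left hx.1, fun y hy => ?_⟩
    obtain ⟨u, hu, v, hv, rfl⟩ := h.mem_S₀.1 hy
    rw [← mul_assoc, h.comm₁ hx.1 hu, mul_assoc, h.comm₂ hx.2 hv, mul_assoc]
  · rintro ⟨hx, hc⟩
    have hxS : x ∈ S := (sup_le h.s₁.QS h.s₂.QS) hx
    exact ⟨h.s₁.cen x hxS fun v hv => hc v (mem_sup_left (h.s₁.VQ hv)),
      h.s₂.cen x hxS fun v hv => hc v (mem_sup_right (h.s₂.VQ hv))⟩

end Mut

end Cfsg.Agent.Omega.FFOne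

end

section


/-!
# OMEGA / SQT, node SQ2 = FF-1 (bb #9675), steps (1)-(5) for one natural `SL₂(q)`-module on both sides
-/

set_option autoImplicit false

open Subgroup
open scoped commutatorElement

namespace Cfsg.Agent.Omega.FFOne

variable {G : Type*} [Group G]

/-- Coordinates for the natural `SL₂(F)`-module `V / C_V(⟨A^P⟩)`: `A` acts as the transvection group `z ↦ z + y x`,
`t` is a torus generator. -/
structure NatCo {F : Type*} [Field F] (P Q V A : Subgroup G) (x z y : G → F) (t : G) (ω : F) : Prop where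
  x_mul : ∀ u ∈ V, ∀ v ∈ V, x (u * v) = x u + x v
  z_mul : ∀ u ∈ V, ∀ v ∈ V, z (u * v) = z u + z v
  surj : ∀ b c, ∃ v ∈ V, x v = b ∧ z v = c
  ker : ∀ v ∈ V, x v = 0 → z v = 0 → ∀ h ∈ P, ∀ w ∈ A, v * (h * w * h⁻¹) = h * w * h⁻¹ * v
  ker' : ∀ v ∈ V, (∀ h ∈ P, ∀ w ∈ A, v * (h * w * h⁻¹) = h * w * h⁻¹ * v) → x v = 0 ∧ z v = 0
  yx : ∀ w ∈ A, ∀ v ∈ V, x (w * v * w⁻¹) = x v
  yz : ∀ w ∈ A, ∀ v ∈ V, z (w * v * w⁻¹) = z v + y w * x v
  y_surj : ∀ b, ∃ w ∈ A, y w = b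
  fix : ∀ v ∈ V, x v = 0 → ∀ w ∈ A, v * w = w * v
  tP : t ∈ P
  tA : ∀ w ∈ A, ∃ w' ∈ A, ∃ q ∈ Q, t * w * t⁻¹ = w' * q
  tC : ∀ c ∈ CC P Q A, t * c * t⁻¹ = c
  tx : ∀ v ∈ V, x (t * v * t⁻¹) = ω⁻¹ * x v
  tz : ∀ v ∈ V, z (t * v * t⁻¹) = ω * z v
  gen : ∀ a : F, a ≠ 0 → ∃ n : ℕ, a = ω ^ n
  ω0 : ω ≠ 0
  ω1 : ω ≠ 1

/-- index of the kernel of an additive surjective coordinate -/
theorem relIndex_ker' {F : Type*} [Field F] {Q K : Subgroup G} {f : G → F}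
    (hm : ∀ u ∈ Q, ∀ v ∈ Q, f (u * v) = f u + f v) (hs : ∀ a, ∃ u ∈ Q, f u = a)
    (hK : ∀ u ∈ Q, u ∈ K ↔ f u = 0) : K.relIndex Q = Nat.card F := by
  let φ : Q →* Multiplicative F :=
    { toFun := fun u => Multiplicative.ofAdd (f u)
      map_one' := by
        change Multiplicative.ofAdd (f ((1 : Q) : G)) = 1
        rw [coe_one, add_one' hm]; rfl
      map_mul' := fun u v => by
        change Multiplicative.ofAdd (f ((u : G) * v)) = _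
        rw [hm u u.2 v v.2]; rfl }
  have h1 : K.subgroupOf Q = φ.ker := by
    ext u
    rw [mem_subgroupOf, hK u u.2, MonoidHom.mem_ker]
    exact Iff.rfl
  have h2 : φ.range = ⊤ := by
    rw [MonoidHom.range_eq_top]
    intro a
    obtain ⟨u, hu, h⟩ := hs a.toAdd
    exact ⟨⟨u, hu⟩, congrArg Multiplicative.ofAdd h⟩
  rw [relIndex, h1, index_ker, h2, card_top]
  rfl

/-- extension of an additive coordinate from `V` to `Q = V C` -/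
theorem exists_ext {F : Type*} [Field F] {V C Q : Subgroup G} (hVQ : V ≤ Q) (hCQ : C ≤ Q)
    (hcomm : ∀ u ∈ Q, ∀ v ∈ Q, u * v = v * u) (hdec : ∀ u ∈ Q, ∃ v ∈ V, ∃ c ∈ C, u = v * c) {f : G → F}
    (hm : ∀ u ∈ V, ∀ v ∈ V, f (u * v) = f u + f v) (hk : ∀ u ∈ V, u ∈ C → f u = 0) :
    ∃ f' : G → F, (∀ u ∈ Q, ∀ v ∈ Q, f' (u * v) = f' u + f' v) ∧ (∀ v ∈ V, ∀ c ∈ C, f' (v * c) = f v) := by
  classical
  let f' : G → F := fun u => if h : u ∈ Q then f (hdec u h).choose else 0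
  have key : ∀ v ∈ V, ∀ c ∈ C, f' (v * c) = f v := by
    intro v hv c hc
    have hu : v * c ∈ Q := mul_mem (hVQ hv) (hCQ hc)
    have e : f' (v * c) = f (hdec _ hu).choose := dif_pos hu
    rw [e]
    obtain ⟨hv', c', hc', e'⟩ := (hdec _ hu).choose_spec
    set v' := (hdec _ hu).choose
    have h1 : v'⁻¹ * v = c' * c⁻¹ := by
      rw [inv_mul_eq_iff_eq_mul, ← mul_assoc, ← e', mul_inv_cancel_right]
    have h2 : f (v'⁻¹ * v) = 0 := hk _ (mul_mem (inv_mem hv') hv) (by rw [h1]; exact mul_mem hc' (inv_mem hc))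
    rw [hm _ (inv_mem hv') _ hv, add_inv' hm hv'] at h2
    linear_combination -h2
  refine ⟨f', fun u hu v hv => ?_, key⟩
  obtain ⟨u₁, hu₁, c₁, hc₁, rfl⟩ := hdec u hu
  obtain ⟨v₁, hv₁, c₂, hc₂, rfl⟩ := hdec v hv
  rw [key u₁ hu₁ c₁ hc₁, key v₁ hv₁ c₂ hc₂, ← hm _ hu₁ _ hv₁]
  have e : u₁ * c₁ * (v₁ * c₂) = (u₁ * v₁) * (c₁ * c₂) := by
    have h1 := hcomm c₁ (hCQ hc₁) v₁ (hVQ hv₁)
    calc u₁ * c₁ * (v₁ * c₂) = u₁ * (c₁ * v₁) * c₂ := by group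
      _ = u₁ * (v₁ * c₁) * c₂ := by rw [h1]
      _ = _ := by group
  rw [e]
  exact key _ (mul_mem hu₁ hv₁) _ (mul_mem hc₁ hc₂)

namespace Mut

variable {P₁ P₂ S Q₁ Q₂ V₁ V₂ : Subgroup G} {a : ℕ}

theorem cm_mem (h : Mut P₁ P₂ S Q₁ Q₂ V₁ V₂ a) {u v : G} (hu : u ∈ Q₁) (hv : v ∈ Q₂) : cm u v ∈ Q₁ ⊓ Q₂ := by
  refine mem_inf.2 ⟨?_, ?_⟩
  · have h1 := h.s₁.Qn v (h.s₁.SP (h.s₂.QS hv)) u⁻¹ (inv_mem hu)
    have h2 := mul_mem hu h1
    have e : cm u v = u * (v * u⁻¹ * v⁻¹) := by simp only [cm]; group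
    rw [e]; exact h2
  · have h1 := h.s₂.Qn u (h.s₂.SP (h.s₁.QS hu)) v hv
    exact mul_mem h1 (inv_mem hv)

theorem base (h : Mut P₁ P₂ S Q₁ Q₂ V₁ V₂ a) : Base Q₁ Q₂ (Q₁ ⊓ Q₂) where
  D₁ := inf_le_left
  D₂ := inf_le_right
  sq₁ := fun _ hu => h.sq₁ hu
  sq₂ := fun _ hu => h.sq₂ hu
  mem := fun _ hu _ hv => h.cm_mem hu hv

variable [Finite G] {F : Type*} [Field F] {x z y : G → F} {t : G} {ω : F}

theorem exists_co (h : Mut P₁ P₂ S Q₁ Q₂ V₁ V₂ a) (n : NatCo P₁ Q₁ V₁ V₂ x z y t ω) :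
    ∃ X Y Z : G → F, (∀ v ∈ V₁, X v = x v ∧ Z v = z v) ∧ (∀ w ∈ V₂, Y w = y w) ∧
      Co Q₁ Q₂ (Q₁ ⊓ Q₂) (CC P₁ Q₁ V₂) X Y Z t ω := by
  have b := h.base
  -- `x` and the centraliser
  have hxD : ∀ v ∈ V₁, x v = 0 ↔ v ∈ Q₁ ⊓ Q₂ := by
    intro v hv
    constructor
    · intro hx
      exact h.mem_D (h.s₁.VQ hv) (n.fix v hv hx)
    · intro hvD
      obtain ⟨w, hw, hyw⟩ := n.y_surj 1
      have h1 := n.yz w hw v hv
      have h2 : w * v = v * w := h.comm₂ (h.s₂.VQ hw) hvD.2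
      rw [h2, mul_inv_cancel_right, hyw, one_mul] at h1
      exact left_eq_add.1 h1
  have hk : ∀ v ∈ V₁, v ∈ CC P₁ Q₁ V₂ → x v = 0 ∧ z v = 0 := fun v hv hvC =>
    n.ker' v hv (fun h' hh w hw => ((mem_CC.1 hvC).2 h' hh w hw))
  have hcomm₁ : ∀ u ∈ Q₁, ∀ v ∈ Q₁, u * v = v * u := fun u hu v hv => h.comm₁ hu hv
  have hCQ : CC P₁ Q₁ V₂ ≤ Q₁ := inf_le_left
  obtain ⟨X, hXm, hX⟩ := exists_ext h.s₁.VQ hCQ hcomm₁ (fun u hu => h.decC hu) n.x_mul (fun v hv hvC => (hk v hv hvC).1)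
  obtain ⟨Z, hZm, hZ⟩ := exists_ext h.s₁.VQ hCQ hcomm₁ (fun u hu => h.decC hu) n.z_mul (fun v hv hvC => (hk v hv hvC).2)
  have two : (2 : F) = 0 := by
    obtain ⟨v, hv, hx1, -⟩ := n.surj 1 0
    have h1 := n.x_mul v hv v hv
    rw [h.s₁.sq v hv, add_one' n.x_mul, hx1] at h1
    rw [← one_add_one_eq_two, ← h1]
  -- `y`
  have hym : ∀ u ∈ V₂, ∀ w ∈ V₂, y (u * w) = y u + y w := by
    intro u hu w hw
    obtain ⟨v, hv, hx1, -⟩ := n.surj 1 0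
    have h1 := n.yz (u * w) (mul_mem hu hw) v hv
    have hwv : w * v * w⁻¹ ∈ V₁ := h.s₁.Vn w (h.s₁.SP (h.s₂.QS (h.s₂.VQ hw))) v hv
    have h2 := n.yz u hu _ hwv
    rw [n.yz w hw v hv, n.yx w hw v hv, hx1] at h2
    have e : u * w * v * (u * w)⁻¹ = u * (w * v * w⁻¹) * u⁻¹ := by group
    rw [e, h2, hx1] at h1
    linear_combination -h1
  have hyD : ∀ w ∈ V₂, w ∈ Q₁ ⊓ Q₂ → y w = 0 := by
    intro w hw hwD
    obtain ⟨v, hv, hx1, -⟩ := n.surj 1 0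
    have h1 := n.yz w hw v hv
    have h2 : w * v = v * w := h.comm₁ hwD.1 (h.s₁.VQ hv)
    rw [h2, mul_inv_cancel_right, hx1, mul_one] at h1
    exact left_eq_add.1 h1
  obtain ⟨Y, hYm, hY⟩ := exists_ext h.s₂.VQ (inf_le_right : Q₁ ⊓ Q₂ ≤ Q₂) (fun u hu v hv => h.comm₂ hu hv)
    (fun u hu => h.dec₂ hu) hym hyD
  have hXV : ∀ v ∈ V₁, X v = x v := fun v hv => by
    have := hX v hv 1 (one_mem _); rwa [mul_one] at this
  have hZV : ∀ v ∈ V₁, Z v = z v := fun v hv => by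
    have := hZ v hv 1 (one_mem _); rwa [mul_one] at this
  have hYV : ∀ v ∈ V₂, Y v = y v := fun v hv => by
    have := hY v hv 1 (one_mem _); rwa [mul_one] at this
  have hXC : ∀ c ∈ CC P₁ Q₁ V₂, X c = 0 := fun c hc => by
    have := hX 1 (one_mem _) c hc; rwa [one_mul, add_one' n.x_mul] at this
  have hZC : ∀ c ∈ CC P₁ Q₁ V₂, Z c = 0 := fun c hc => by
    have := hZ 1 (one_mem _) c hc; rwa [one_mul, add_one' n.z_mul] at this
  have hYD : ∀ d ∈ Q₁ ⊓ Q₂, Y d = 0 := fun c hc => by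
    have := hY 1 (one_mem _) c hc; rwa [one_mul, add_one' hym] at this
  have hx_ker : ∀ u ∈ Q₁, X u = 0 ↔ u ∈ Q₁ ⊓ Q₂ := by
    intro u hu
    obtain ⟨v, hv, c, hc, rfl⟩ := h.decC hu
    rw [hX v hv c hc, hxD v hv]
    exact (mul_mem_cancel_right (h.C_le hc)).symm
  -- `|F| = a`
  have hF : Nat.card F = a := by
    rw [← h.relIndex_D]
    refine (relIndex_ker' hXm (fun b => ?_) fun u hu => (hx_ker u hu).symm).symm
    obtain ⟨v, hv, h1, -⟩ := n.surj b 0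
    exact ⟨v, h.s₁.VQ hv, by rw [hXV v hv, h1]⟩
  have hY_surj : ∀ b, ∃ u ∈ Q₂, Y u = b := by
    intro b
    obtain ⟨w, hw, h1⟩ := n.y_surj b
    exact ⟨w, h.s₂.VQ hw, by rw [hYV w hw, h1]⟩
  have hY_ker : ∀ u ∈ Q₂, Y u = 0 ↔ u ∈ Q₁ ⊓ Q₂ := by
    intro u hu
    let K : Subgroup G :=
      { carrier := {u | u ∈ Q₂ ∧ Y u = 0}
        one_mem' := ⟨one_mem _, add_one' hYm⟩
        mul_mem' := fun {a b} ha hb => ⟨mul_mem ha.1 hb.1, by rw [hYm _ ha.1 _ hb.1, ha.2, hb.2, add_zero]⟩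
        inv_mem' := fun {a} ha => ⟨inv_mem ha.1, by rw [add_inv' hYm ha.1, ha.2, neg_zero]⟩ }
    have hKQ : K ≤ Q₂ := fun u hu => hu.1
    have hDK : Q₁ ⊓ Q₂ ≤ K := fun d hd => ⟨hd.2, hYD d hd⟩
    have h1 : K.relIndex Q₂ = Nat.card F := relIndex_ker' hYm hY_surj fun u hu => ⟨fun h => h.2, fun h => ⟨hu, h⟩⟩
    have h2 := relIndex_mul_relIndex _ _ _ hDK hKQ
    have h3 : (Q₁ ⊓ Q₂).relIndex Q₂ = a := by rw [inf_comm]; exact h.symm.relIndex_D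
    rw [h1, h3, hF] at h2
    have h4 : (Q₁ ⊓ Q₂).relIndex K = 1 := by
      have := h.a_pos
      exact Nat.eq_of_mul_eq_mul_right this (by rw [h2, one_mul])
    have h5 : K ≤ Q₁ ⊓ Q₂ := relIndex_eq_one.1 h4
    exact ⟨fun h' => h5 ⟨hu, h'⟩, hYD u⟩
  -- commutators
  have hcom : ∀ u ∈ Q₁, ∀ v ∈ Q₂, Z (cm u v) = X u * Y v := by
    intro u' hu' v hv
    obtain ⟨u, hu, c, hc, rfl⟩ := h.decC hu'
    obtain ⟨w, hw, d, hd, rfl⟩ := h.dec₂ hv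
    rw [hX u hu c hc, hY w hw d hd]
    have hwQ := h.s₂.VQ hw
    have huQ := h.s₁.VQ hu
    rw [b.cm_mul_left huQ (h.C_le hc).1 hv, b.cm_D_left (h.C_le hc) hv, mul_one, b.cm_mul_right huQ hwQ hd.2,
      b.cm_D_right huQ hd, mul_one]
    have e : cm u w = u * (w * u⁻¹ * w⁻¹) := by simp only [cm]; group
    have hwu : w * u⁻¹ * w⁻¹ ∈ V₁ := h.s₁.Vn w (h.s₁.SP (h.s₂.QS hwQ)) _ (inv_mem hu)
    rw [e, hZV _ (mul_mem hu hwu), n.z_mul _ hu _ hwu, n.yz w hw _ (inv_mem hu), add_inv' n.z_mul hu,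
      add_inv' n.x_mul hu]
    linear_combination (-(y w * x u)) * two
  have htQ₁ : ∀ u ∈ Q₁, t * u * t⁻¹ ∈ Q₁ := fun u hu => h.s₁.Qn t n.tP u hu
  -- `t` normalises `S₀`
  have htS : ∀ s ∈ Q₁ ⊔ Q₂, t * s * t⁻¹ ∈ Q₁ ⊔ Q₂ := by
    intro s hs
    obtain ⟨u, hu, v, hv, rfl⟩ := h.mem_S₀.1 hs
    obtain ⟨w, hw, d, hd, rfl⟩ := h.dec₂ hv
    obtain ⟨w', hw', q, hq, e⟩ := n.tA w hw
    have e2 : t * (u * (w * d)) * t⁻¹ = (t * u * t⁻¹) * (t * w * t⁻¹) * (t * d * t⁻¹) := by group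
    rw [e2, e]
    exact mul_mem (mul_mem (mem_sup_left (htQ₁ u hu)) (mul_mem (mem_sup_right (h.s₂.VQ hw')) (mem_sup_left hq)))
      (mem_sup_left (htQ₁ d hd.1))
  have htD : ∀ d ∈ Q₁ ⊓ Q₂, t * d * t⁻¹ ∈ Q₁ ⊓ Q₂ := by
    intro d hd
    rw [h.mem_D_iff] at hd ⊢
    refine ⟨htS d hd.1, fun s hs => ?_⟩
    obtain ⟨s', hs', rfl⟩ := conj_surj t htS s hs
    have h1 := hd.2 s' hs'
    calc t * d * t⁻¹ * (t * s' * t⁻¹) = t * (d * s') * t⁻¹ := by group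
      _ = t * (s' * d) * t⁻¹ := by rw [h1]
      _ = _ := by group
  have htQ₂ : ∀ v ∈ Q₂, t * v * t⁻¹ ∈ Q₂ := by
    intro v hv
    by_cases hvD : v ∈ Q₁ ⊓ Q₂
    · exact (htD v hvD).2
    obtain ⟨w, hw, d, hd, e⟩ := h.dec₂ hv
    obtain ⟨w', hw', q, hq, e1⟩ := n.tA w hw
    have e2 : t * v * t⁻¹ = w' * (q * (t * d * t⁻¹)) := by
      rw [e]
      calc t * (w * d) * t⁻¹ = (t * w * t⁻¹) * (t * d * t⁻¹) := by group
        _ = w' * q * (t * d * t⁻¹) := by rw [e1]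
        _ = _ := by group
    set q' := q * (t * d * t⁻¹) with hq'
    have hq'Q : q' ∈ Q₁ := mul_mem hq (htQ₁ d hd.1)
    have hw'Q := h.s₂.VQ hw'
    have h3 : (w' * q') * (w' * q') = 1 := by
      rw [← e2]
      calc t * v * t⁻¹ * (t * v * t⁻¹) = t * (v * v) * t⁻¹ := by group
        _ = 1 := by rw [h.sq₂ hv]; group
    have h4 : cm q' w' = 1 := by
      have h5 : q' * w' = w' * q' := by
        have h6 := inv_eq_of_mul_eq_one_left h3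
        rw [mul_inv_rev, h.inv₁ hq'Q, inv_eq_of_mul_eq_one_left (h.sq₂ hw'Q)] at h6
        exact h6
      rw [cm, h5]; group
    have h5 := hcom q' hq'Q w' hw'Q
    rw [h4, add_one' hZm] at h5
    rcases mul_eq_zero.1 h5.symm with h6 | h6
    · rw [e2]
      exact mul_mem hw'Q ((hx_ker q' hq'Q).1 h6).2
    · exfalso
      have h7 : t * v * t⁻¹ ∈ Q₁ := by
        rw [e2]
        exact mul_mem ((hY_ker w' hw'Q).1 h6).1 hq'Q
      have h8 := h.s₁.Qn t⁻¹ (inv_mem n.tP) _ h7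
      have e3 : t⁻¹ * (t * v * t⁻¹) * t⁻¹⁻¹ = v := by group
      rw [e3] at h8
      exact hvD ⟨h8, hv⟩
  refine ⟨X, Y, Z, fun v hv => ⟨hXV v hv, hZV v hv⟩, hYV,
    { CD := h.C_le
      x_mul := hXm
      x_surj := fun b => by
        obtain ⟨v, hv, h1, -⟩ := n.surj b 0
        exact ⟨v, h.s₁.VQ hv, by rw [hXV v hv, h1]⟩
      x_ker := hx_ker
      y_mul := hYm
      y_surj := hY_surj
      y_ker := hY_ker
      z_mul := fun u hu v hv => hZm u hu.1 v hv.1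
      z_surj := fun b => by
        obtain ⟨v, hv, h1, h2⟩ := n.surj 0 b
        exact ⟨v, (hxD v hv).1 h1, by rw [hZV v hv, h2]⟩
      z_ker := fun u hu => by
        obtain ⟨v, hv, c, hc, rfl⟩ := h.decC hu.1
        rw [hZ v hv c hc]
        have hvD : v ∈ Q₁ ⊓ Q₂ := (mul_mem_cancel_right (h.C_le hc)).1 hu
        constructor
        · intro h0
          refine mul_mem ?_ hc
          rw [mem_CC]
          exact ⟨h.s₁.VQ hv, n.ker v hv ((hxD v hv).2 hvD) h0⟩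
        · intro h0
          exact (hk v hv ((mul_mem_cancel_right hc).1 h0)).2
      com := hcom
      tQ₁ := htQ₁
      tQ₂ := htQ₂
      tD := htD
      tx := fun u hu => by
        obtain ⟨v, hv, c, hc, rfl⟩ := h.decC hu
        have e : t * (v * c) * t⁻¹ = (t * v * t⁻¹) * c := by
          conv_rhs => rw [← n.tC c hc]
          group
        rw [e, hX _ (h.s₁.Vn t n.tP v hv) c hc, hX v hv c hc, n.tx v hv]
      tz := fun u hu => by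
        obtain ⟨v, hv, c, hc, rfl⟩ := h.decC hu.1
        have e : t * (v * c) * t⁻¹ = (t * v * t⁻¹) * c := by
          conv_rhs => rw [← n.tC c hc]
          group
        rw [e, hZ _ (h.s₁.Vn t n.tP v hv) c hc, hZ v hv c hc, n.tz v hv]
      tC := n.tC
      gen := n.gen
      ω0 := n.ω0
      ω1 := n.ω1 }⟩

end Mut

theorem fix_of_odd {g u e : G} {n : ℕ} (hn : Odd n) (hg : g ^ n = 1) (h1 : g * u * g⁻¹ = e * u)
    (h2 : g * e * g⁻¹ = e) (h3 : e * e = 1) : g * u * g⁻¹ = u := by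
  have key : ∀ k : ℕ, g ^ k * u * (g ^ k)⁻¹ = e ^ k * u := by
    intro k
    induction k with
    | zero => simp
    | succ k ih =>
      have h4 : g * e ^ k * g⁻¹ = e ^ k := by
        have h5 : g * e = e * g := mul_inv_eq_iff_eq_mul.1 h2
        have h6 : Commute g e := h5
        rw [(h6.pow_right k).eq, mul_inv_cancel_right]
      calc g ^ (k + 1) * u * (g ^ (k + 1))⁻¹ = g * (g ^ k * u * (g ^ k)⁻¹) * g⁻¹ := by
            rw [pow_succ']; group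
        _ = (g * e ^ k * g⁻¹) * (g * u * g⁻¹) := by rw [ih]; group
        _ = e ^ (k + 1) * u := by rw [h4, h1, pow_succ]; group
  have h4 := key n
  rw [hg, one_mul, inv_one, mul_one] at h4
  have h5 : e ^ n = 1 := (right_eq_mul.1 h4)
  obtain ⟨m, rfl⟩ := hn
  have h6 : e ^ 2 = 1 := by rw [pow_two, h3]
  rw [pow_succ, pow_mul, h6, one_pow, one_mul] at h5
  rw [h1, h5, one_mul]

namespace Mut

variable {P₁ P₂ S Q₁ Q₂ V₁ V₂ : Subgroup G} {a : ℕ} [Finite G]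

/-- normal 2-subgroups of `N_G(S₀)` lie in `S`, so the chain stabiliser of `S₀ > D > S₀' > 1` centralises `D` -/
theorem hR (h : Mut P₁ P₂ S Q₁ Q₂ V₁ V₂ a)
    (hN : ∀ R : Subgroup G, IsPGroup 2 R → R ≤ normalizer ((Q₁ ⊔ Q₂ : Subgroup G) : Set G) →
      (∀ g ∈ normalizer ((Q₁ ⊔ Q₂ : Subgroup G) : Set G), ∀ r ∈ R, g * r * g⁻¹ ∈ R) → R ≤ S)
    (hc : ∀ g : G, (∀ s ∈ Q₁ ⊔ Q₂, g * s = s * g) → g ∈ Q₁ ⊔ Q₂) (r : G)
    (hr₁ : ∀ u ∈ Q₁, r * u * r⁻¹ * u⁻¹ ∈ Q₁ ⊓ Q₂) (hr₂ : ∀ v ∈ Q₂, r * v * r⁻¹ * v⁻¹ ∈ Q₁ ⊓ Q₂)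
    (hrD : ∀ d ∈ Q₁ ⊓ Q₂, ∃ u ∈ Q₁, ∃ v ∈ Q₂, r * d * r⁻¹ * d⁻¹ = cm u v)
    (hrE : ∀ u ∈ Q₁, ∀ v ∈ Q₂, r * cm u v * r⁻¹ = cm u v) : ∀ d ∈ Q₁ ⊓ Q₂, r * d * r⁻¹ = d := by
  have b := h.base
  set S₀ : Subgroup G := Q₁ ⊔ Q₂ with hS₀
  set D : Subgroup G := Q₁ ⊓ Q₂ with hD
  set E : Subgroup G := ⁅S₀, S₀⁆ with hE
  have hDS : D ≤ S₀ := inf_le_left.trans le_sup_left
  -- `E` is generated by the `cm u v`
  have hEle : E ≤ closure {e : G | ∃ u ∈ Q₁, ∃ v ∈ Q₂, e = cm u v} := by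
    rw [hE, commutator_le]
    intro s hs s' hs'
    obtain ⟨u, hu, v, hv, rfl⟩ := h.mem_S₀.1 hs
    obtain ⟨u', hu', v', hv', rfl⟩ := h.mem_S₀.1 hs'
    have e1 : ⁅u * v, u' * v'⁆ = cm u v' * cm u' v := by
      have hz : ∀ d ∈ D, ∀ s ∈ S₀, d * s = s * d := fun d hd s hs => (h.mem_D_iff.1 hd).2 s hs
      have m1 := h.cm_mem hu hv'
      have m2 := h.cm_mem hu' hv
      have hvS : v ∈ S₀ := mem_sup_right hv
      have huS : u ∈ S₀ := mem_sup_left hu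
      have hu'S : u' ∈ S₀ := mem_sup_left hu'
      have hv'S : v' ∈ S₀ := mem_sup_right hv'
      rw [commutatorElement_def]
      -- `v u' = [u',v]⁻¹... u' v`
      have e2 : v * u' = cm u' v * (u' * v) := by
        rw [← b.cm_inv hu' hv]; simp only [cm]; group
      have e3 : u * v' = cm u v' * (v' * u) := by simp only [cm]; group
      have e4 : v * v' = v' * v := h.comm₂ hv hv'
      have e5 : u * u' = u' * u := h.comm₁ hu hu'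
      have e6 : u * v * (u' * v') = cm u v' * cm u' v * ((u' * v') * (u * v)) := by
        calc u * v * (u' * v') = u * (v * u') * v' := by group
          _ = u * (cm u' v * (u' * v)) * v' := by rw [e2]
          _ = (u * cm u' v) * u' * (v * v') := by group
          _ = (cm u' v * u) * u' * (v' * v) := by rw [← hz _ m2 u huS, e4]
          _ = cm u' v * (u * u') * (v' * v) := by group
          _ = cm u' v * (u' * u) * (v' * v) := by rw [e5]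
          _ = cm u' v * u' * (u * v') * v := by group
          _ = cm u' v * u' * (cm u v' * (v' * u)) * v := by rw [e3]
          _ = cm u' v * (u' * cm u v') * v' * u * v := by group
          _ = cm u' v * (cm u v' * u') * v' * u * v := by rw [← hz _ m1 u' hu'S]
          _ = (cm u' v * cm u v') * ((u' * v') * (u * v)) := by group
          _ = _ := by rw [hz _ m2 _ (hDS m1)]
      calc u * v * (u' * v') * (u * v)⁻¹ * (u' * v')⁻¹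
          = cm u v' * cm u' v * ((u' * v') * (u * v)) * (u * v)⁻¹ * (u' * v')⁻¹ := by rw [e6]
        _ = _ := by group
    rw [e1]
    exact mul_mem (subset_closure ⟨u, hu, v', hv', rfl⟩) (subset_closure ⟨u', hu', v, hv, rfl⟩)
  have hED : E ≤ D := by
    refine hEle.trans ?_
    rw [closure_le]
    rintro _ ⟨u, hu, v, hv, rfl⟩
    exact h.cm_mem hu hv
  have hcE : ∀ u ∈ Q₁, ∀ v ∈ Q₂, cm u v ∈ E := fun u hu v hv => by
    have := commutator_mem_commutator (show u ∈ S₀ from mem_sup_left hu) (show v ∈ S₀ from mem_sup_right hv)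
    rw [commutatorElement_def] at this
    exact this
  -- the chain stabiliser
  let T : Set G := {g | (∀ s ∈ S₀, g * s * g⁻¹ * s⁻¹ ∈ D) ∧ (∀ d ∈ D, g * d * g⁻¹ * d⁻¹ ∈ E) ∧
    ∀ e ∈ E, g * e * g⁻¹ = e}
  have hTD : ∀ g ∈ T, ∀ d ∈ D, g * d * g⁻¹ ∈ D := by
    intro g hg d hd
    have h1 := mul_mem (hED (hg.2.1 d hd)) hd
    rwa [inv_mul_cancel_right] at h1
  have hT1 : (1 : G) ∈ T := by
    refine ⟨fun s hs => ?_, fun d hd => ?_, fun e he => ?_⟩ <;> simp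
  have hTm : ∀ g ∈ T, ∀ g' ∈ T, g * g' ∈ T := by
    intro g hg g' hg'
    refine ⟨fun s hs => ?_, fun d hd => ?_, fun e he => ?_⟩
    · have e1 : g * g' * s * (g * g')⁻¹ * s⁻¹ = (g * (g' * s * g'⁻¹ * s⁻¹) * g⁻¹) * (g * s * g⁻¹ * s⁻¹) := by group
      rw [e1]
      exact mul_mem (hTD g hg _ (hg'.1 s hs)) (hg.1 s hs)
    · have e1 : g * g' * d * (g * g')⁻¹ * d⁻¹ = (g * (g' * d * g'⁻¹ * d⁻¹) * g⁻¹) * (g * d * g⁻¹ * d⁻¹) := by group
      rw [e1, hg.2.2 _ (hg'.2.1 d hd)]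
      exact mul_mem (hg'.2.1 d hd) (hg.2.1 d hd)
    · have e1 : g * g' * e * (g * g')⁻¹ = g * (g' * e * g'⁻¹) * g⁻¹ := by group
      rw [e1, hg'.2.2 e he, hg.2.2 e he]
  have hTp : ∀ g ∈ T, ∀ k : ℕ, g ^ k ∈ T := by
    intro g hg k
    induction k with
    | zero => rw [pow_zero]; exact hT1
    | succ k ih => rw [pow_succ]; exact hTm _ ih _ hg
  let R : Subgroup G :=
    { carrier := T
      one_mem' := hT1
      mul_mem' := fun {a b} ha hb => hTm a ha b hb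
      inv_mem' := fun {g} hg => by
        have h1 : g * g ^ (orderOf g - 1) = 1 := by
          rw [← pow_succ', Nat.sub_add_cancel (orderOf_pos g), pow_orderOf_eq_one]
        rw [inv_eq_of_mul_eq_one_right h1]
        exact hTp g hg _ }
  have hodd : ∀ g ∈ R, ∀ n : ℕ, Odd n → g ^ n = 1 → g = 1 := by
    intro g hg n hn hgn
    have hD1 : ∀ d ∈ D, g * d * g⁻¹ = d := by
      intro d hd
      refine fix_of_odd hn hgn (e := g * d * g⁻¹ * d⁻¹) (by group) (hg.2.2 _ (hg.2.1 d hd)) ?_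
      exact h.sq₁ (hED (hg.2.1 d hd)).1
    have hS1 : ∀ s ∈ S₀, g * s * g⁻¹ = s := by
      intro s hs
      refine fix_of_odd hn hgn (e := g * s * g⁻¹ * s⁻¹) (by group) (hD1 _ (hg.1 s hs)) ?_
      exact h.sq₁ (hg.1 s hs).1
    have h1 : ∀ s ∈ S₀, g * s = s * g := fun s hs => mul_inv_eq_iff_eq_mul.1 (hS1 s hs)
    have h2 : g ∈ D := h.mem_D_iff.2 ⟨hc g h1, h1⟩
    have h3 : g ^ 2 = 1 := by rw [pow_two]; exact h.sq₁ h2.1
    obtain ⟨m, rfl⟩ := hn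
    rwa [pow_succ, pow_mul, h3, one_pow, one_mul] at hgn
  have hRp : IsPGroup 2 R := by
    intro g
    obtain ⟨k, m, hm, e⟩ := Nat.exists_eq_two_pow_mul_odd (orderOf_pos (g : G)).ne'
    refine ⟨k, ?_⟩
    have h1 := hodd ((g : G) ^ 2 ^ k) (hTp _ g.2 _) m hm (by rw [← pow_mul, ← e, pow_orderOf_eq_one])
    exact Subtype.ext (by rw [coe_pow, h1, coe_one])
  have hRS₀ : ∀ g ∈ R, ∀ s ∈ S₀, g * s * g⁻¹ ∈ S₀ := by
    intro g hg s hs
    have h1 := mul_mem (hDS (hg.1 s hs)) hs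
    rwa [inv_mul_cancel_right] at h1
  have hRN : R ≤ normalizer (S₀ : Set G) := by
    intro g hg
    rw [mem_normalizer_iff]
    intro s
    refine ⟨hRS₀ g hg s, fun hs => ?_⟩
    have h1 := hRS₀ g⁻¹ (inv_mem hg) _ hs
    have e : g⁻¹ * (g * s * g⁻¹) * g⁻¹⁻¹ = s := by group
    rwa [e] at h1
  have hRnorm : ∀ g ∈ normalizer (S₀ : Set G), ∀ r ∈ R, g * r * g⁻¹ ∈ R := by
    intro g hg r hr
    have hgS : ∀ g ∈ normalizer (S₀ : Set G), ∀ s ∈ S₀, g * s * g⁻¹ ∈ S₀ := fun g hg s hs =>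
      (mem_normalizer_iff.1 hg s).1 hs
    have hginv : g⁻¹ ∈ normalizer (S₀ : Set G) := inv_mem hg
    have hgD : ∀ g ∈ normalizer (S₀ : Set G), ∀ d ∈ D, g * d * g⁻¹ ∈ D := by
      intro g hg d hd
      rw [h.mem_D_iff] at hd ⊢
      refine ⟨hgS g hg d hd.1, fun s hs => ?_⟩
      have h1 := hd.2 _ (hgS g⁻¹ (inv_mem hg) s hs)
      rw [inv_inv] at h1
      calc g * d * g⁻¹ * s = g * (d * (g⁻¹ * s * g)) * g⁻¹ := by group
        _ = g * (g⁻¹ * s * g * d) * g⁻¹ := by rw [h1]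
        _ = s * (g * d * g⁻¹) := by group
    have hgE : ∀ g ∈ normalizer (S₀ : Set G), ∀ e ∈ E, g * e * g⁻¹ ∈ E := by
      intro g hg e he
      have h1 : S₀.map (MulAut.conj g).toMonoidHom = S₀ := by
        rw [mem_normalizer_iff_map_conj_eq] at hg
        exact hg
      have h2 : E.map (MulAut.conj g).toMonoidHom = E := by
        rw [hE, map_commutator, h1]
      rw [← h2]
      exact ⟨e, he, rfl⟩
    refine ⟨fun s hs => ?_, fun d hd => ?_, fun e he => ?_⟩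
    · have h1 := hgD g hg _ (hr.1 _ (hgS g⁻¹ hginv s hs))
      have e : g * (r * (g⁻¹ * s * g⁻¹⁻¹) * r⁻¹ * (g⁻¹ * s * g⁻¹⁻¹)⁻¹) * g⁻¹ = g * r * g⁻¹ * s * (g * r * g⁻¹)⁻¹ * s⁻¹ := by
        group
      rwa [e] at h1
    · have h1 := hgE g hg _ (hr.2.1 _ (hgD g⁻¹ hginv d hd))
      have e : g * (r * (g⁻¹ * d * g⁻¹⁻¹) * r⁻¹ * (g⁻¹ * d * g⁻¹⁻¹)⁻¹) * g⁻¹ = g * r * g⁻¹ * d * (g * r * g⁻¹)⁻¹ * d⁻¹ := by
        group
      rwa [e] at h1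
    · have h1 := hr.2.2 _ (hgE g⁻¹ hginv e he)
      calc g * r * g⁻¹ * e * (g * r * g⁻¹)⁻¹ = g * (r * (g⁻¹ * e * g⁻¹⁻¹) * r⁻¹) * g⁻¹ := by group
        _ = g * (g⁻¹ * e * g⁻¹⁻¹) * g⁻¹ := by rw [h1]
        _ = e := by group
  have hRS : R ≤ S := hN R hRp hRN hRnorm
  -- `r ∈ R`
  have hrR : r ∈ R := by
    have hrD' : ∀ d ∈ D, r * d * r⁻¹ ∈ D := by
      intro d hd
      obtain ⟨u, hu, v, hv, e⟩ := hrD d hd
      have h1 := mul_mem (h.cm_mem hu hv) hd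
      rwa [← e, inv_mul_cancel_right] at h1
    refine ⟨fun s hs => ?_, fun d hd => ?_, fun e he => ?_⟩
    · obtain ⟨u, hu, v, hv, rfl⟩ := h.mem_S₀.1 hs
      have h1 := hr₂ v hv
      have h2 := (h.mem_D_iff.1 h1).2 u⁻¹ (mem_sup_left (inv_mem hu))
      have e1 : r * (u * v) * r⁻¹ * (u * v)⁻¹ = (r * u * r⁻¹) * ((r * v * r⁻¹ * v⁻¹) * u⁻¹) := by group
      have e2 : (r * u * r⁻¹) * (u⁻¹ * (r * v * r⁻¹ * v⁻¹)) = (r * u * r⁻¹ * u⁻¹) * (r * v * r⁻¹ * v⁻¹) := by group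
      rw [e1, h2, e2]
      exact mul_mem (hr₁ u hu) h1
    · obtain ⟨u, hu, v, hv, e⟩ := hrD d hd
      rw [e]
      exact hcE u hu v hv
    · have h1 : closure {e : G | ∃ u ∈ Q₁, ∃ v ∈ Q₂, e = cm u v} ≤ centralizer {r} := by
        rw [closure_le]
        rintro _ ⟨u, hu, v, hv, rfl⟩
        have h2 := hrE u hu v hv
        rw [SetLike.mem_coe, mem_centralizer_singleton_iff]
        exact (mul_inv_eq_iff_eq_mul.1 h2).symm
      have h2 := h1 (hEle he)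
      rw [mem_centralizer_singleton_iff] at h2
      rw [← h2, mul_inv_cancel_right]
  -- `R ≤ S₀`
  have hRS₀' : r ∈ S₀ := by
    obtain ⟨w, hw, q, hq, e⟩ := h.o₁.act r (hRS hrR) (fun v hv => by
      have h1 := hrR.1 v (mem_sup_left (h.s₁.VQ hv))
      rw [mem_centralizer_iff]
      intro w hw
      exact ((h.mem_D_iff.1 h1).2 w (mem_sup_right (h.s₂.VQ hw))).symm)
    rw [e]
    exact mul_mem (mem_sup_right (h.s₂.VQ hw)) (mem_sup_left hq)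
  intro d hd
  rw [← (h.mem_D_iff.1 hd).2 r hRS₀', mul_inv_cancel_right]

variable {F : Type*} [Field F] [Finite F] {x z y x₂ z₂ y₂ : G → F} {t₁ t₂ : G} {ω₁ ω₂ : F}

/-- **#9675 (1)-(5)**, one natural `SL₂(q)`-module on both sides (`q ≥ 4`): `S₀ = Q₁ Q₂` is a Sylow 2-subgroup of
`L₃(q)` or `Sp₄(q)`. -/
theorem main (h : Mut P₁ P₂ S Q₁ Q₂ V₁ V₂ a)
    (hN : ∀ R : Subgroup G, IsPGroup 2 R → R ≤ normalizer ((Q₁ ⊔ Q₂ : Subgroup G) : Set G) →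
      (∀ g ∈ normalizer ((Q₁ ⊔ Q₂ : Subgroup G) : Set G), ∀ r ∈ R, g * r * g⁻¹ ∈ R) → R ≤ S)
    (hc : ∀ g : G, (∀ s ∈ Q₁ ⊔ Q₂, g * s = s * g) → g ∈ Q₁ ⊔ Q₂)
    (n₁ : NatCo P₁ Q₁ V₁ V₂ x z y t₁ ω₁) (n₂ : NatCo P₂ Q₂ V₂ V₁ x₂ z₂ y₂ t₂ ω₂) :
    ∃ X Y Z : G → F, (∀ v ∈ V₁, X v = x v ∧ Z v = z v) ∧ (∀ w ∈ V₂, Y w = y w) ∧
      Co Q₁ Q₂ (Q₁ ⊓ Q₂) (CC P₁ Q₁ V₂) X Y Z t₁ ω₁ ∧
      ((CC P₁ Q₁ V₂ = ⊥ ∧ CC P₂ Q₂ V₁ = ⊥ ∧ ∃ ω : F, LThree Q₁ Q₂ (Q₁ ⊓ Q₂) X Y Z t₁ t₂ ω₁ ω) ∨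
        ∃ (Z' : G → F) (ω : F), SpFour Q₁ Q₂ (Q₁ ⊓ Q₂) (CC P₁ Q₁ V₂) (CC P₂ Q₂ V₁) X Y Z Z' t₁ t₂ ω₁ ω) := by
  obtain ⟨X, Y, Z, h1, h2, co₁⟩ := h.exists_co n₁
  obtain ⟨X₂, Y₂, Z₂, -, -, co₂⟩ := h.symm.exists_co n₂
  rw [inf_comm] at co₂
  exact ⟨X, Y, Z, h1, h2, co₁, five h.base co₁ co₂ h.C_inf (h.hR hN hc)⟩

end Mut

end Cfsg.Agent.Omega.FFOne

end
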